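import Cfsg.Agent.Lib.SolvClass.Basic

/-!
The group algebra of an abelian normal subgroup: either a field, or its minimal idempotents give a decomposition
permuted by the whole group.
-/

set_option autoImplicit false
set_option linter.unusedSectionVars false
set_option linter.style.haveILetI false

namespace CfsgLib.SolvClass

universe u v w

variable {k : Type w} [Field k] {V : Type v} [AddCommGroup V] [Module k V] {G : Type u} [Group G]
  (ρ : G →* (V ≃ₗ[k] V))

/-- Conjugation of endomorphisms. -/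
def cjEnd (g : G) (x : Module.End k V) : Module.End k V :=
  (ρ g : V →ₗ[k] V) * x * (ρ g⁻¹ : V →ₗ[k] V)

theorem cjEnd_apply (g : G) (x : Module.End k V) (v : V) : cjEnd ρ g x v = ρ g (x (ρ g⁻¹ v)) := rfl

theorem coe_mul_coe (g h : G) : (ρ g : V →ₗ[k] V) * (ρ h : V →ₗ[k] V) = (ρ (g * h) : V →ₗ[k] V) :=
  LinearMap.ext fun v => by simp

theorem cjEnd_one (x : Module.End k V) : cjEnd ρ 1 x = x := LinearMap.ext fun v => by simp [cjEnd_apply]

theorem cjEnd_cjEnd (g h : G) (x : Module.End k V) : cjEnd ρ g (cjEnd ρ h x) = cjEnd ρ (g * h) x :=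
  LinearMap.ext fun v => by simp [cjEnd_apply, LinearEquiv.mul_apply]

theorem cjEnd_mul (g : G) (x y : Module.End k V) : cjEnd ρ g (x * y) = cjEnd ρ g x * cjEnd ρ g y :=
  LinearMap.ext fun v => by simp [cjEnd_apply, ← LinearEquiv.mul_apply, ← map_mul]

/-- The algebra spanned by a subgroup. -/
noncomputable def alg (A : Subgroup G) : Subalgebra k (Module.End k V) :=
  Algebra.adjoin k ((fun a => (ρ a : V →ₗ[k] V)) '' (A : Set G))

theorem mem_alg {A : Subgroup G} {a : G} (ha : a ∈ A) : (ρ a : V →ₗ[k] V) ∈ alg ρ A :=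
  Algebra.subset_adjoin ⟨a, ha, rfl⟩

theorem alg_comm {A : Subgroup G} (hA : ∀ a ∈ A, ∀ b ∈ A, a * b = b * a) {x y : Module.End k V}
    (hx : x ∈ alg ρ A) (hy : y ∈ alg ρ A) : x * y = y * x := by
  have h : ∀ a ∈ A, ∀ z ∈ alg ρ A, (ρ a : V →ₗ[k] V) * z = z * (ρ a : V →ₗ[k] V) := by
    intro a ha z hz
    induction hz using Algebra.adjoin_induction with
    | mem z hz =>
      obtain ⟨b, hb, rfl⟩ := hz
      rw [coe_mul_coe, coe_mul_coe, hA a ha b hb]
    | algebraMap c => exact (Algebra.commutes c _).symm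
    | add z w _ _ hz hw => rw [mul_add, add_mul, hz, hw]
    | mul z w _ _ hz hw => rw [← mul_assoc, hz, mul_assoc, hw, mul_assoc]
  induction hx using Algebra.adjoin_induction with
  | mem z hz =>
    obtain ⟨a, ha, rfl⟩ := hz
    exact h a ha y hy
  | algebraMap c => exact Algebra.commutes c _
  | add z w _ _ hz hw => rw [mul_add, add_mul, hz, hw]
  | mul z w _ _ hz hw => rw [mul_assoc, hw, ← mul_assoc, hz, mul_assoc]

theorem cjEnd_mem_alg {A : Subgroup G} [A.Normal] (g : G) {x : Module.End k V} (hx : x ∈ alg ρ A) :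
    cjEnd ρ g x ∈ alg ρ A := by
  induction hx using Algebra.adjoin_induction with
  | mem z hz =>
    obtain ⟨a, ha, rfl⟩ := hz
    rw [cjEnd, coe_mul_coe, coe_mul_coe]
    exact mem_alg ρ (‹A.Normal›.conj_mem a ha g)
  | algebraMap c =>
    rw [show cjEnd ρ g (algebraMap k (Module.End k V) c) = algebraMap k (Module.End k V) c from
      LinearMap.ext fun v => by simp [cjEnd_apply, ← LinearEquiv.mul_apply, ← map_mul]]
    exact Subalgebra.algebraMap_mem _ c
  | add z w _ _ hz hw =>
    rw [show cjEnd ρ g (z + w) = cjEnd ρ g z + cjEnd ρ g w by simp [cjEnd, mul_add, add_mul]]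
    exact add_mem hz hw
  | mul z w _ _ hz hw => rw [cjEnd_mul]; exact mul_mem hz hw

/-- Von Neumann regularity of the group algebra in coprime characteristic. -/
theorem alg_regular [Finite G] {A : Subgroup G} (hA : ∀ a ∈ A, ∀ b ∈ A, a * b = b * a)
    (hco : (Nat.card A : k) ≠ 0) {x : Module.End k V} (hx : x ∈ alg ρ A) :
    ∃ y ∈ alg ρ A, x * y * x = x := by
  classical
  letI : CommGroup A :=
    { (inferInstance : Group A) with mul_comm := fun a b => Subtype.ext (hA a a.2 b b.2) }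
  haveI : NeZero (Nat.card A : k) := ⟨hco⟩
  have := Fintype.ofFinite A
  haveI : NeZero (Fintype.card A : k) := ⟨by rwa [← Nat.card_eq_fintype_card]⟩
  let φ : MonoidAlgebra k A →ₐ[k] Module.End k V :=
    MonoidAlgebra.lift k (Module.End k V) A
      { toFun := fun a => (ρ (a : G) : V →ₗ[k] V)
        map_one' := LinearMap.ext fun v => by simp
        map_mul' := fun a b => LinearMap.ext fun v => by simp }
  have hrange : φ.range = alg ρ A := by
    refine le_antisymm ?_ (Algebra.adjoin_le ?_)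
    · rintro _ ⟨z, rfl⟩
      induction z using MonoidAlgebra.induction_on with
      | of a => simpa [φ] using mem_alg ρ a.2
      | add z w hz hw => simpa using add_mem hz hw
      | smul c z hz => simpa using Subalgebra.smul_mem _ hz c
    · rintro _ ⟨a, ha, rfl⟩
      exact ⟨MonoidAlgebra.of k A ⟨a, ha⟩, by simp [φ]⟩
  rw [← hrange] at hx ⊢
  obtain ⟨z, rfl⟩ := hx
  obtain ⟨J, hJ⟩ := exists_isCompl (Ideal.span {z} : Ideal (MonoidAlgebra k A))
  obtain ⟨e, he, f, hf, hef⟩ := Submodule.mem_sup.mp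
    (show (1 : MonoidAlgebra k A) ∈ Ideal.span {z} ⊔ J by rw [hJ.sup_eq_top]; trivial)
  obtain ⟨y, hy⟩ := Ideal.mem_span_singleton'.mp he
  have hzf : z * f = 0 := by
    have : z * f ∈ Ideal.span {z} ⊓ J :=
      ⟨Ideal.mul_mem_right f _ (Ideal.mem_span_singleton_self z), Ideal.mul_mem_left _ _ hf⟩
    rw [hJ.inf_eq_bot] at this
    exact this
  refine ⟨φ y, ⟨y, rfl⟩, ?_⟩
  show φ z * φ y * φ z = φ z
  rw [← map_mul, ← map_mul]
  congr 1
  calc z * y * z = z * (y * z) := mul_assoc _ _ _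
    _ = z * e + z * f := by rw [hzf, add_zero, hy]
    _ = z := by rw [← mul_add, hef, mul_one]

/-- An idempotent decomposition permuted by the group. -/
structure Blocks where
  E : Finset (Module.End k V)
  idem : ∀ e ∈ E, e * e = e
  orth : ∀ e ∈ E, ∀ f ∈ E, e ≠ f → e * f = 0
  sum_one : ∑ e ∈ E, e = 1
  ne_zero : ∀ e ∈ E, e ≠ 0
  perm : ∀ g, ∀ e ∈ E, cjEnd ρ g e ∈ E

/-- Either every nonzero element of the algebra is invertible in it, or there are at least two blocks. -/
theorem exists_blocks [Finite G] [FiniteDimensional k V] {A : Subgroup G} [A.Normal]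
    (hA : ∀ a ∈ A, ∀ b ∈ A, a * b = b * a) (hco : (Nat.card A : k) ≠ 0) :
    (∀ x ∈ alg ρ A, x ≠ 0 → ∃ y ∈ alg ρ A, x * y = 1) ∨
      ∃ D : Blocks ρ, 2 ≤ D.E.card ∧
        ((∀ U : Submodule k V, (∀ g, ∀ x ∈ U, ρ g x ∈ U) → U = ⊥ ∨ U = ⊤) →
          ∀ e ∈ D.E, ∀ f ∈ D.E, ∃ g, cjEnd ρ g e = f) := by
  classical
  by_cases hfield : ∀ x ∈ alg ρ A, x ≠ 0 → ∃ y ∈ alg ρ A, x * y = 1
  · exact Or.inl hfield
  refine Or.inr ?_
  push Not at hfield
  obtain ⟨x, hx, hx0, hxinv⟩ := hfield
  obtain ⟨y, hy, hxyx⟩ := alg_regular ρ hA hco hx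
  -- a nontrivial idempotent, of minimal rank
  have hex : ∃ m, ∃ e ∈ alg ρ A, e * e = e ∧ e ≠ 0 ∧ e ≠ 1 ∧ Module.finrank k (LinearMap.range e) = m := by
    refine ⟨_, x * y, mul_mem hx hy, ?_, fun e => hx0 ?_, hxinv y hy, rfl⟩
    · rw [← mul_assoc, hxyx]
    · rw [← hxyx, e, zero_mul]
  obtain ⟨e, heA, hee, he0, he1, hem⟩ := Nat.find_spec hex
  have hmin : ∀ f ∈ alg ρ A, f * f = f → f * e = f → f ≠ 0 → f = e := by
    intro f hfA hff hfe hf0
    by_contra hne
    have hef : e * f = f := by rw [alg_comm ρ hA heA hfA, hfe]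
    have hle : LinearMap.range f ≤ LinearMap.range e := by
      rintro _ ⟨v, rfl⟩
      exact ⟨f v, LinearMap.congr_fun hef v⟩
    have hf1 : f ≠ 1 := fun h => he1 (by rw [h, one_mul] at hfe; exact hfe)
    have hge : Module.finrank k (LinearMap.range e) ≤ Module.finrank k (LinearMap.range f) :=
      hem ▸ Nat.find_min' hex ⟨f, hfA, hff, hf0, hf1, rfl⟩
    have heq := Submodule.eq_of_le_of_finrank_le hle hge
    refine hne (LinearMap.ext fun v => ?_)
    obtain ⟨w, hw⟩ : e v ∈ LinearMap.range f := heq ▸ LinearMap.mem_range_self e v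
    calc f v = (f * e) v := by rw [hfe]
      _ = f (e v) := rfl
      _ = f (f w) := by rw [hw]
      _ = (f * f) w := rfl
      _ = e v := by rw [hff, hw]
  have := Fintype.ofFinite G
  let O : Finset (Module.End k V) := Finset.univ.image fun g => cjEnd ρ g e
  have hOmem : ∀ {f}, f ∈ O → ∃ g, cjEnd ρ g e = f := fun {f} hf => by simpa [O] using hf
  have hOA : ∀ f ∈ O, f ∈ alg ρ A := fun f hf => by
    obtain ⟨g, rfl⟩ := hOmem hf
    exact cjEnd_mem_alg ρ g heA
  have hOidem : ∀ f ∈ O, f * f = f := fun f hf => by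
    obtain ⟨g, rfl⟩ := hOmem hf
    rw [← cjEnd_mul, hee]
  have hcj0 : ∀ g, ∀ z : Module.End k V, cjEnd ρ g z = 0 → z = 0 := fun g z hz => by
    have h := congrArg (cjEnd ρ g⁻¹) hz
    rw [cjEnd_cjEnd, inv_mul_cancel, cjEnd_one] at h
    rw [h]; simp [cjEnd]
  have hO0 : ∀ f ∈ O, f ≠ 0 := fun f hf h => by
    obtain ⟨g, rfl⟩ := hOmem hf
    exact he0 (hcj0 g e h)
  -- distinct conjugates are orthogonal
  have horth1 : ∀ f ∈ O, e ≠ f → e * f = 0 := by
    intro f hf hne
    by_contra hne0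
    have hfA := hOA f hf
    have hc := alg_comm ρ hA heA hfA
    have h1 : e * f = e := by
      refine hmin _ (mul_mem heA hfA) ?_ ?_ hne0
      · rw [mul_assoc, ← mul_assoc f e f, ← hc, mul_assoc e f f, hOidem f hf, ← mul_assoc, hee]
      · rw [mul_assoc, ← hc, ← mul_assoc, hee]
    obtain ⟨g, hg⟩ := hOmem hf
    -- transported to `f`
    have h2 : cjEnd ρ g⁻¹ e = e := by
      refine hmin _ (cjEnd_mem_alg ρ _ heA) (by rw [← cjEnd_mul, hee]) ?_ fun h => he0 (hcj0 _ _ h)
      have h3 := congrArg (cjEnd ρ g⁻¹) h1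
      rw [cjEnd_mul, ← hg, cjEnd_cjEnd, inv_mul_cancel, cjEnd_one] at h3
      exact h3
    apply hne
    have h4 := congrArg (cjEnd ρ g) h2
    rw [cjEnd_cjEnd, mul_inv_cancel, cjEnd_one, hg] at h4
    exact h4
  have horth : ∀ f ∈ O, ∀ f' ∈ O, f ≠ f' → f * f' = 0 := by
    intro f hf f' hf' hne
    obtain ⟨g, rfl⟩ := hOmem hf
    obtain ⟨g', rfl⟩ := hOmem hf'
    have h : e * cjEnd ρ (g⁻¹ * g') e = 0 := by
      refine horth1 _ (Finset.mem_image.mpr ⟨_, Finset.mem_univ _, rfl⟩) fun h => hne ?_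
      conv_lhs => rw [h]
      rw [cjEnd_cjEnd, mul_inv_cancel_left]
    have h' := congrArg (cjEnd ρ g) h
    rw [cjEnd_mul, cjEnd_cjEnd, mul_inv_cancel_left] at h'
    rw [h']; simp [cjEnd]
  set s := ∑ f ∈ O, f with hs
  have hsf : ∀ f ∈ O, s * f = f ∧ f * s = f := by
    intro f hf
    constructor
    · rw [hs, Finset.sum_mul, Finset.sum_eq_single f (fun b hb hbf => horth b hb f hf hbf)
        fun h => absurd hf h, hOidem f hf]
    · rw [hs, Finset.mul_sum, Finset.sum_eq_single f (fun b hb hbf => horth f hf b hb (Ne.symm hbf))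
        fun h => absurd hf h, hOidem f hf]
  have hss : s * s = s := by
    conv_rhs => rw [hs]
    conv_lhs => arg 2; rw [hs]
    rw [Finset.mul_sum]
    exact Finset.sum_congr rfl fun f hf => (hsf f hf).1
  have hperm : ∀ g, ∀ f ∈ O, cjEnd ρ g f ∈ O := fun g f hf => by
    obtain ⟨g', rfl⟩ := hOmem hf
    exact Finset.mem_image.mpr ⟨g * g', Finset.mem_univ _, (cjEnd_cjEnd ρ g g' e).symm⟩
  have hcs : ∀ g, cjEnd ρ g s = s := by
    intro g
    have hbij : O.image (cjEnd ρ g) = O := Finset.eq_of_subset_of_card_le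
      (fun f hf => by obtain ⟨f', hf', rfl⟩ := Finset.mem_image.mp hf; exact hperm g f' hf')
      (le_of_eq (Finset.card_image_of_injective _ fun a b h => by
        have h' := congrArg (cjEnd ρ g⁻¹) h
        rwa [cjEnd_cjEnd, cjEnd_cjEnd, inv_mul_cancel, cjEnd_one, cjEnd_one] at h').symm)
    conv_rhs => rw [hs, ← hbij]
    rw [Finset.sum_image fun a _ b _ h => by
      have h' := congrArg (cjEnd ρ g⁻¹) h
      rwa [cjEnd_cjEnd, cjEnd_cjEnd, inv_mul_cancel, cjEnd_one, cjEnd_one] at h']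
    rw [hs]
    simp only [cjEnd, Finset.mul_sum, Finset.sum_mul]
  have heO : e ∈ O := Finset.mem_image.mpr ⟨1, Finset.mem_univ _, cjEnd_one ρ e⟩
  by_cases hs1 : s = 1
  · refine ⟨⟨O, hOidem, horth, hs1, hO0, hperm⟩, ?_, fun _ f hf f' hf' => ?_⟩
    · show 2 ≤ O.card
      by_contra hlt
      have h1 : O = {e} := Finset.eq_singleton_iff_unique_mem.mpr
        ⟨heO, fun f hf => Finset.card_le_one.mp (by omega) f hf e heO⟩
      exact he1 (by rw [← hs1, hs, h1, Finset.sum_singleton])
    · obtain ⟨g, rfl⟩ := hOmem hf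
      obtain ⟨g', rfl⟩ := hOmem hf'
      exact ⟨g' * g⁻¹, by rw [cjEnd_cjEnd, inv_mul_cancel_right]⟩
  · have hr : ∀ f ∈ O, (1 - s) * f = 0 ∧ f * (1 - s) = 0 := fun f hf => by
      rw [sub_mul, mul_sub, one_mul, mul_one, (hsf f hf).1, (hsf f hf).2, sub_self]; exact ⟨rfl, rfl⟩
    have hr0 : (1 : Module.End k V) - s ≠ 0 := sub_ne_zero.mpr (Ne.symm hs1)
    have hrr : (1 - s) * (1 - s) = 1 - s := by
      rw [sub_mul, mul_sub, mul_sub, one_mul, one_mul, mul_one, hss]; abel
    have hrO : (1 - s) ∉ O := fun h => hr0 (by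
      have := (hr _ h).1
      rwa [hrr] at this)
    refine ⟨⟨insert (1 - s) O, ?_, ?_, ?_, ?_, ?_⟩, ?_, fun hirr => ?_⟩
    · intro f hf
      rcases Finset.mem_insert.mp hf with rfl | hf
      · exact hrr
      · exact hOidem f hf
    · intro f hf f' hf' hne
      rcases Finset.mem_insert.mp hf with rfl | hf <;> rcases Finset.mem_insert.mp hf' with rfl | hf'
      · exact absurd rfl hne
      · exact (hr f' hf').1
      · exact (hr f hf).2
      · exact horth f hf f' hf' hne
    · rw [Finset.sum_insert hrO, ← hs, sub_add_cancel]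
    · intro f hf
      rcases Finset.mem_insert.mp hf with rfl | hf
      · exact hr0
      · exact hO0 f hf
    · intro g f hf
      rcases Finset.mem_insert.mp hf with rfl | hf
      · refine Finset.mem_insert.mpr (Or.inl ?_)
        have h1 : cjEnd ρ g 1 = 1 := LinearMap.ext fun v => by
          simp [cjEnd_apply, ← LinearEquiv.mul_apply, ← map_mul]
        conv_rhs => rw [← hcs g, ← h1]
        simp [cjEnd, mul_sub, sub_mul]
      · exact Finset.mem_insert_of_mem (hperm g f hf)
    · show 2 ≤ (insert (1 - s) O).card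
      rw [Finset.card_insert_of_notMem hrO]
      have : 0 < O.card := Finset.card_pos.mpr ⟨e, heO⟩
      omega
    · -- an invariant image
      exfalso
      rcases hirr (LinearMap.range s) (fun g v hv => by
          obtain ⟨w, rfl⟩ := hv
          refine ⟨ρ g w, ?_⟩
          conv_lhs => rw [← hcs g]
          simp [cjEnd_apply, ← LinearEquiv.mul_apply, ← map_mul]) with h | h
      · refine he0 ?_
        rw [← (hsf e heO).1, LinearMap.range_eq_bot.mp h, zero_mul]
      · refine hs1 (LinearMap.ext fun v => ?_)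
        obtain ⟨w, rfl⟩ : v ∈ LinearMap.range s := h ▸ Submodule.mem_top
        exact LinearMap.congr_fun hss w

namespace Blocks

variable {ρ} (D : Blocks ρ)

/-- The permutation of the blocks. -/
def permHom : G →* Equiv.Perm D.E where
  toFun := fun g =>
    { toFun := fun e => ⟨cjEnd ρ g e, D.perm g e e.2⟩
      invFun := fun e => ⟨cjEnd ρ g⁻¹ e, D.perm g⁻¹ e e.2⟩
      left_inv := fun e => Subtype.ext (by show cjEnd ρ g⁻¹ (cjEnd ρ g e) = e; rw [cjEnd_cjEnd, inv_mul_cancel, cjEnd_one])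
      right_inv := fun e => Subtype.ext (by show cjEnd ρ g (cjEnd ρ g⁻¹ e) = e; rw [cjEnd_cjEnd, mul_inv_cancel, cjEnd_one]) }
  map_one' := Equiv.ext fun e => Subtype.ext (cjEnd_one ρ e)
  map_mul' := fun g h => Equiv.ext fun e => Subtype.ext (cjEnd_cjEnd ρ g h e).symm

theorem commute_of_stab {g : G} {e : Module.End k V} (h : cjEnd ρ g e = e) (v : V) :
    e (ρ g v) = ρ g (e v) := by
  conv_lhs => rw [← h]
  simp [cjEnd_apply, ← LinearEquiv.mul_apply, ← map_mul]

/-- The stabiliser of a block. -/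
def stab (e : D.E) : Subgroup G where
  carrier := {g | cjEnd ρ g e = e}
  mul_mem' := fun {g h} hg hh => by
    show cjEnd ρ (g * h) e = e
    rw [← cjEnd_cjEnd, show cjEnd ρ h e = e from hh]; exact hg
  one_mem' := cjEnd_one ρ e
  inv_mem' := fun {g} hg => by
    show cjEnd ρ g⁻¹ e = e
    conv_lhs => rw [← (show cjEnd ρ g e = e from hg)]
    rw [cjEnd_cjEnd, inv_mul_cancel, cjEnd_one]

/-- The restriction of a stabiliser to its block. -/
def res (e : D.E) : D.stab e →* (LinearMap.range (e : Module.End k V) ≃ₗ[k] LinearMap.range (e : Module.End k V)) where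
  toFun := fun g =>
    LinearEquiv.ofSubmodules (ρ g) _ _ (by
      ext v
      constructor
      · rintro ⟨_, ⟨w, rfl⟩, rfl⟩
        exact ⟨ρ g w, commute_of_stab g.2 w⟩
      · rintro ⟨w, rfl⟩
        refine ⟨(e : Module.End k V) (ρ (g : G)⁻¹ w), ⟨_, rfl⟩, ?_⟩
        show ρ g ((e : Module.End k V) (ρ (g : G)⁻¹ w)) = _
        rw [← commute_of_stab g.2, ← LinearEquiv.mul_apply, ← map_mul, mul_inv_cancel, map_one]
        rfl)
  map_one' := LinearEquiv.ext fun v => Subtype.ext (by simp)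
  map_mul' := fun g h => LinearEquiv.ext fun v => Subtype.ext (by simp [LinearEquiv.mul_apply])

theorem res_apply (e : D.E) (g : D.stab e) (v : LinearMap.range (e : Module.End k V)) :
    (D.res e g v : V) = ρ g v := rfl

theorem sum_apply (v : V) : ∑ e : D.E, (e : Module.End k V) v = v := by
  rw [← LinearMap.sum_apply, Finset.sum_coe_sort D.E (fun e => e), D.sum_one]
  rfl

theorem ker_le_stab (e : D.E) : D.permHom.ker ≤ D.stab e := fun g hg =>
  congrArg Subtype.val (DFunLike.congr_fun (MonoidHom.mem_ker.mp hg) e)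

theorem eq_one_of_res (hρ : Function.Injective ρ) (g : D.permHom.ker)
    (h : ∀ e : D.E, D.res e ⟨g, D.ker_le_stab e g.2⟩ = 1) : g = 1 := by
  refine Subtype.ext (hρ (LinearEquiv.ext fun v => ?_))
  rw [Subgroup.coe_one, map_one]
  conv_lhs => rw [← D.sum_apply v]
  rw [map_sum]
  conv_rhs => rw [LinearEquiv.coe_one, id_eq, ← D.sum_apply v]
  exact Finset.sum_congr rfl fun e _ =>
    (congrArg Subtype.val (DFunLike.congr_fun (h e) ⟨(e : Module.End k V) v, v, rfl⟩) :)

theorem sum_finrank [FiniteDimensional k V] :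
    ∑ e : D.E, Module.finrank k (LinearMap.range (e : Module.End k V)) = Module.finrank k V := by
  classical
  rw [← Module.finrank_pi_fintype k]
  refine LinearEquiv.finrank_eq (LinearEquiv.symm ?_)
  refine LinearEquiv.ofLinear
    (LinearMap.pi fun e : D.E => (e : Module.End k V).rangeRestrict)
    (∑ e : D.E, (LinearMap.range (e : Module.End k V)).subtype ∘ₗ LinearMap.proj e) ?_ ?_
  · refine LinearMap.ext fun f => funext fun e => Subtype.ext ?_
    simp only [LinearMap.coe_comp, Function.comp_apply, LinearMap.pi_apply, LinearMap.id_coe, id_eq,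
      LinearMap.sum_apply, Submodule.coe_subtype, LinearMap.proj_apply]
    show (e : Module.End k V) (∑ d : D.E, (f d : V)) = f e
    rw [map_sum, Finset.sum_eq_single e]
    · obtain ⟨w, hw⟩ := (f e).2
      rw [← hw]; exact LinearMap.congr_fun (D.idem e e.2) w
    · intro d _ hd
      obtain ⟨w, hw⟩ := (f d).2
      rw [← hw]
      exact LinearMap.congr_fun (D.orth e e.2 d d.2 fun h => hd (Subtype.ext h).symm) w
    · exact fun h => absurd (Finset.mem_univ e) h
  · refine LinearMap.ext fun v => ?_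
    simp only [LinearMap.coe_comp, Function.comp_apply, LinearMap.sum_apply, Submodule.coe_subtype,
      LinearMap.proj_apply, LinearMap.pi_apply, LinearMap.id_coe, id_eq]
    exact D.sum_apply v

theorem finrank_eq_of_conj {e f : D.E} {g : G} (h : cjEnd ρ g e = f) :
    Module.finrank k (LinearMap.range (e : Module.End k V)) =
      Module.finrank k (LinearMap.range (f : Module.End k V)) := by
  rw [← (ρ g).finrank_map_eq (LinearMap.range (e : Module.End k V))]
  apply congrArg (fun S : Submodule k V => Module.finrank k S)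
  ext v
  constructor
  · rintro ⟨_, ⟨w, rfl⟩, rfl⟩
    exact ⟨ρ g w, by rw [← h]; simp [cjEnd_apply, ← LinearEquiv.mul_apply, ← map_mul]⟩
  · rintro ⟨w, rfl⟩
    exact ⟨_, ⟨ρ g⁻¹ w, rfl⟩, by rw [← h]; rfl⟩

/-- The stabiliser of a block is irreducible on it when the group is irreducible. -/
theorem stab_irreducible (hirr : ∀ U : Submodule k V, (∀ g, ∀ x ∈ U, ρ g x ∈ U) → U = ⊥ ∨ U = ⊤) (e : D.E)
    (U : Submodule k (LinearMap.range (e : Module.End k V))) (hU : ∀ g, ∀ x ∈ U, D.res e g x ∈ U) :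
    U = ⊥ ∨ U = ⊤ := by
  classical
  let U' : Submodule k V := U.map (Submodule.subtype _)
  rcases hirr (⨆ g : G, U'.map (ρ g : V →ₗ[k] V)) (fun g x hx => by
      have h1 : (⨆ h : G, U'.map (ρ h : V →ₗ[k] V)).map (ρ g : V →ₗ[k] V) ≤ ⨆ h : G, U'.map (ρ h : V →ₗ[k] V) := by
        rw [Submodule.map_iSup]
        refine iSup_le fun h => le_trans (le_of_eq ?_) (le_iSup _ (g * h))
        rw [← Submodule.map_comp]
        exact congrArg (fun f => Submodule.map f U') (coe_mul_coe ρ g h)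
      exact h1 ⟨x, hx, rfl⟩) with h | h
  · refine Or.inl ((Submodule.eq_bot_iff U).mpr fun u hu => Subtype.ext ?_)
    have h1 : (u : V) ∈ ⨆ g : G, U'.map (ρ g : V →ₗ[k] V) :=
      le_iSup (fun g : G => U'.map (ρ g : V →ₗ[k] V)) 1 ⟨u, ⟨u, hu, rfl⟩, by simp⟩
    rw [h] at h1
    exact h1
  · refine Or.inr (eq_top_iff.mpr fun v _ => ?_)
    have hle : (⨆ g : G, U'.map (ρ g : V →ₗ[k] V)).map (e : Module.End k V) ≤ U' := by
      rw [Submodule.map_iSup]
      refine iSup_le fun g => ?_
      rintro _ ⟨_, ⟨_, ⟨u, hu, rfl⟩, rfl⟩, rfl⟩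
      obtain ⟨w, hw⟩ := u.2
      by_cases hg : cjEnd ρ g e = e
      · refine ⟨D.res e ⟨g, hg⟩ u, hU _ u hu, ?_⟩
        show (ρ g (u : V)) = (e : Module.End k V) (ρ g (u : V))
        rw [commute_of_stab hg, ← hw, show (e : Module.End k V) ((e : Module.End k V) w) = (e : Module.End k V) w
          from LinearMap.congr_fun (D.idem e e.2) w]
      · have h0 := LinearMap.congr_fun (D.orth e e.2 _ (D.perm g e e.2) (Ne.symm hg)) (ρ g w)
        show (e : Module.End k V) (ρ g (u : V)) ∈ U'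
        rw [← hw, show ρ g ((e : Module.End k V) w) = cjEnd ρ g e (ρ g w) by
          simp [cjEnd_apply, ← LinearEquiv.mul_apply, ← map_mul], ← Module.End.mul_apply,
          show ((e : Module.End k V) * cjEnd ρ g e) (ρ g w) = 0 from h0]
        exact zero_mem _
    obtain ⟨w, hw⟩ := v.2
    have h1 : (v : V) ∈ U' := hle ⟨(v : V), h ▸ Submodule.mem_top, by
      rw [← hw]; exact LinearMap.congr_fun (D.idem e e.2) w⟩
    obtain ⟨u, hu, huv⟩ := h1
    rwa [← Subtype.ext huv]

end Blocks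

end CfsgLib.SolvClass
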