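import Mathlib
import Cfsg.Agent.S4201

/-!
Bounds on the class numbers of all subgroups of a group (`ClassBound`), and the bound `3 ^ (n - 1)` for the order
of a solvable permutation group of degree `n`.
-/

set_option autoImplicit false
set_option linter.unusedSectionVars false
set_option linter.style.haveILetI false

namespace CfsgLib.SolvClass

universe u v w

/-- Every subgroup of `X` has at most `M` conjugacy classes. -/
def ClassBound (X : Type*) [Group X] (M : ℕ) : Prop :=
  ∀ H : Subgroup X, Nat.card (ConjClasses H) ≤ M

section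

variable {X : Type u} [Group X] [Finite X] {Y : Type v} [Group Y] [Finite Y] {M : ℕ}

theorem card_conjClasses_congr_le {A : Type u} {B : Type v} [Group A] [Group B] [Finite A] [Finite B]
    (f : A →* B) (hf : Function.Surjective f) : Nat.card (ConjClasses B) ≤ Nat.card (ConjClasses A) :=
  Nat.card_le_card_of_surjective _ (ConjClasses.map_surjective (f := f) hf)

theorem ClassBound.mono (h : ClassBound X M) {M' : ℕ} (hM : M ≤ M') : ClassBound X M' :=
  fun H => (h H).trans hM

theorem ClassBound.one_le (h : ClassBound X M) : 1 ≤ M :=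
  le_trans (Nat.card_pos (α := ConjClasses (⊥ : Subgroup X))) (h ⊥)

theorem classBound_of_card (h : Nat.card X ≤ M) : ClassBound X M := fun H =>
  ((Nat.card_le_card_of_surjective _ ConjClasses.mk_surjective).trans
    (Nat.card_le_card_of_injective _ H.subtype_injective)).trans h

theorem ClassBound.of_injective (h : ClassBound Y M) (f : X →* Y) (hf : Function.Injective f) :
    ClassBound X M := fun H =>
  (card_conjClasses_congr_le (H.equivMapOfInjective f hf).symm.toMonoidHom
    (H.equivMapOfInjective f hf).symm.surjective).trans (h (H.map f))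

theorem ClassBound.of_surjective (h : ClassBound X M) (f : X →* Y) (hf : Function.Surjective f) :
    ClassBound Y M := fun K => by
  let g : K.comap f →* K := (f.comp (K.comap f).subtype).codRestrict K fun x => x.2
  refine (card_conjClasses_congr_le g fun y => ?_).trans (h (K.comap f))
  obtain ⟨x, hx⟩ := hf y
  exact ⟨⟨x, by simp [hx]⟩, Subtype.ext hx⟩

theorem ClassBound.quotient (h : ClassBound X M) (N : Subgroup X) [N.Normal] : ClassBound (X ⧸ N) M :=
  h.of_surjective (QuotientGroup.mk' N) (QuotientGroup.mk'_surjective N)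

/-- Extensions multiply the bounds. -/
theorem classBound_of_normal (N : Subgroup X) [N.Normal] {a b : ℕ} (hN : ClassBound N a)
    (hQ : ClassBound (X ⧸ N) b) : ClassBound X (a * b) := fun H => by
  refine (Cfsg.Agent.S4201.result (N.subgroupOf H)).trans (Nat.mul_le_mul ?_ ?_)
  · let i : N.subgroupOf H →* N :=
      (H.subtype.comp (N.subgroupOf H).subtype).codRestrict N fun x => x.2
    have hi : Function.Injective i := fun x y e => Subtype.ext (Subtype.ext (congrArg Subtype.val e :))
    exact (card_conjClasses_congr_le (MonoidHom.ofInjective hi).symm.toMonoidHom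
      (MonoidHom.ofInjective hi).symm.surjective).trans (hN i.range)
  · let f : H →* X ⧸ N := (QuotientGroup.mk' N).comp H.subtype
    have hk : f.ker = N.subgroupOf H := by
      ext x; simp [f, Subgroup.mem_subgroupOf]
    let e := (QuotientGroup.quotientMulEquivOfEq hk.symm).trans (QuotientGroup.quotientKerEquivRange f)
    exact (card_conjClasses_congr_le e.symm.toMonoidHom e.symm.surjective).trans (hQ f.range)

theorem classBound_of_hom (f : X →* Y) {a b : ℕ} (hk : ClassBound f.ker a) (hr : ClassBound Y b) :
    ClassBound X (a * b) :=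
  classBound_of_normal f.ker hk (hr.of_injective (QuotientGroup.kerLift f) (QuotientGroup.kerLift_injective f))

theorem classBound_prod {a b : ℕ} (hX : ClassBound X a) (hY : ClassBound Y b) :
    ClassBound (X × Y) (a * b) := by
  rw [mul_comm]
  refine classBound_of_hom (MonoidHom.fst X Y) (hY.of_injective
    ((MonoidHom.snd X Y).comp (MonoidHom.fst X Y).ker.subtype) fun x y e => ?_) hX
  refine Subtype.ext (Prod.ext ?_ e)
  exact ((MonoidHom.mem_ker).mp x.2).trans (MonoidHom.mem_ker.mp y.2).symm

/-- A bound from a set of exceptional elements and centralisers. -/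
theorem classBound_of_centralizer (S : Set X) (h1 : (1 : X) ∈ S) {c : ℕ} (hc : 1 ≤ c)
    (h : ∀ x, x ∉ S → Nat.card {y : X // Commute x y} ≤ c) : ClassBound X (Nat.card S + c - 1) := fun H => by
  classical
  have := Fintype.ofFinite H
  have e := card_comm_eq_card_conjClasses_mul_card H
  rw [Nat.card_congr (Equiv.subtypeProdEquivSigmaSubtype fun a b : H => Commute a b), Nat.card_sigma] at e
  have hle : ∀ x : H, Nat.card {y : H // Commute x y} ≤
      (if (x : X) ∈ S then Nat.card H else 0) + (if x = 1 then 0 else c) := by
    intro x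
    by_cases hx : (x : X) ∈ S
    · rw [if_pos hx]
      exact (Nat.card_le_card_of_injective _ Subtype.val_injective).trans (Nat.le_add_right _ _)
    · have hx1 : x ≠ 1 := fun e => hx (by rw [e]; exact h1)
      rw [if_neg hx, if_neg hx1, zero_add]
      refine (Nat.card_le_card_of_injective
        (fun y : {y : H // Commute x y} => (⟨(y : H), y.2.map H.subtype⟩ : {y : X // Commute (x : X) y}))
        fun a b e => ?_).trans (h _ hx)
      exact Subtype.ext (Subtype.ext (congrArg Subtype.val e :))
  have hle2 : ∑ x : H, ((if (x : X) ∈ S then Nat.card H else 0) + (if x = 1 then 0 else c)) <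
      (Nat.card S + c) * Nat.card H := by
    rw [Finset.sum_add_distrib, ← Finset.sum_filter, Finset.sum_const, smul_eq_mul, add_mul]
    refine add_lt_add_of_le_of_lt (Nat.mul_le_mul_right _ ?_) ?_
    · rw [← Nat.card_eq_finsetCard]
      exact Nat.card_le_card_of_injective
        (fun x => (⟨((x : H) : X), (Finset.mem_filter.mp x.2).2⟩ : S)) fun a b e => by
          exact Subtype.ext (Subtype.ext (congrArg Subtype.val e :))
    · rw [Finset.sum_ite, Finset.sum_const_zero, Finset.sum_const, smul_eq_mul, zero_add, mul_comm c]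
      refine Nat.mul_lt_mul_of_pos_right ?_ hc
      rw [Nat.card_eq_fintype_card]
      exact Finset.card_lt_univ_of_notMem (x := (1 : H)) (by simp)
  have h3 := lt_of_mul_lt_mul_right (lt_of_le_of_lt (e ▸ Finset.sum_le_sum fun x _ => hle x) hle2) (Nat.zero_le _)
  omega

end

/-- A product of finitely many groups. -/
theorem classBound_pi {ι : Type v} [Fintype ι] {Y : ι → Type w} [∀ i, Group (Y i)] [∀ i, Finite (Y i)]
    {m : ι → ℕ} (h : ∀ i, ClassBound (Y i) (m i)) {X : Type u} [Group X] [Finite X] (f : ∀ i, X →* Y i)
    (hf : ∀ x, (∀ i, f i x = 1) → x = 1) : ClassBound X (∏ i, m i) := by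
  classical
  suffices key : ∀ s : Finset ι, ∀ (Z : Subgroup X), (∀ x ∈ Z, (∀ i ∈ s, f i x = 1) → x = 1) →
      ClassBound Z (∏ i ∈ s, m i) by
    exact (key Finset.univ ⊤ fun x _ hx => hf x fun i => hx i (Finset.mem_univ i)).of_injective
      (Subgroup.topEquiv (G := X)).symm.toMonoidHom (Subgroup.topEquiv (G := X)).symm.injective
  intro s
  induction s using Finset.induction with
  | empty =>
    intro Z hZ
    rw [Finset.prod_empty]
    refine classBound_of_card (le_of_eq ?_)
    rw [(Subgroup.eq_bot_iff_forall Z).mpr fun x hx => hZ x hx (by simp), Subgroup.card_bot]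
  | insert i s his ih =>
    intro Z hZ
    rw [Finset.prod_insert his, mul_comm]
    let g : Z →* Y i := (f i).comp Z.subtype
    refine classBound_of_hom g ?_ (h i)
    refine (ih (g.ker.map Z.subtype) ?_).of_injective (g.ker.equivMapOfInjective Z.subtype
      Z.subtype_injective).toMonoidHom (MulEquiv.injective _)
    rintro _ ⟨x, hx, rfl⟩ hs
    refine hZ _ x.2 fun j hj => ?_
    rcases Finset.mem_insert.mp hj with rfl | hj
    · exact hx
    · exact hs j hj

/-! ### Abelian normal subgroups and generators -/

/-- A nontrivial solvable group has a nontrivial abelian normal subgroup. -/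
theorem exists_abelian_normal (G : Type u) [Group G] [Nontrivial G] [hs : Group.IsSolvable G] :
    ∃ A : Subgroup G, A.Normal ∧ A ≠ ⊥ ∧ ∀ a ∈ A, ∀ b ∈ A, a * b = b * a := by
  classical
  obtain ⟨n, hn⟩ := (Group.isSolvable_def G).mp hs
  have hex : ∃ k, derivedSeries G k = ⊥ := ⟨n, hn⟩
  have h0 : Nat.find hex ≠ 0 := fun e => by
    have := Nat.find_spec hex
    rw [e, derivedSeries_zero] at this
    exact top_ne_bot this
  obtain ⟨k, hk⟩ := Nat.exists_eq_succ_of_ne_zero h0
  refine ⟨derivedSeries G k, derivedSeries_normal G k,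
    fun e => Nat.find_min hex (by omega) e, fun a ha b hb => ?_⟩
  have h1 := Nat.find_spec hex
  rw [hk, derivedSeries_succ, Subgroup.commutator_eq_bot_iff_le_centralizer] at h1
  exact (Subgroup.mem_centralizer_iff.mp (h1 ha) b hb).symm

/-- A finite group of order at least `2 ^ d` has generators that are few. -/
theorem exists_small_generators (A : Type u) [Group A] [Finite A] :
    ∃ S : Finset A, Subgroup.closure (S : Set A) = ⊤ ∧ 2 ^ S.card ≤ Nat.card A ∧ (1 : A) ∉ S := by
  classical
  suffices key : ∀ k, ∃ S : Finset A, (1 : A) ∉ S ∧ 2 ^ S.card ≤ Nat.card (Subgroup.closure (S : Set A)) ∧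
      (Subgroup.closure (S : Set A) = ⊤ ∨ k ≤ Nat.card (Subgroup.closure (S : Set A))) by
    obtain ⟨S, h1, h2, h3⟩ := key (Nat.card A + 1)
    have hle := Subgroup.card_le_card_group (Subgroup.closure (S : Set A))
    rcases h3 with h3 | h3
    · exact ⟨S, h3, h2.trans hle, h1⟩
    · omega
  intro k
  induction k with
  | zero => exact ⟨∅, by simp, by simp, Or.inr (Nat.zero_le _)⟩
  | succ k ih =>
    obtain ⟨S, h1, h2, h3⟩ := ih
    by_cases htop : Subgroup.closure (S : Set A) = ⊤
    · exact ⟨S, h1, h2, Or.inl htop⟩
    obtain ⟨x, hx⟩ := SetLike.exists_not_mem_of_ne_top _ htop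
    have hle : Subgroup.closure (S : Set A) ≤ Subgroup.closure (↑(insert x S) : Set A) :=
      Subgroup.closure_mono (by simp)
    have hlt : Subgroup.closure (S : Set A) < Subgroup.closure (↑(insert x S) : Set A) :=
      lt_of_le_of_ne hle fun e => hx (e ▸ Subgroup.subset_closure (by simp))
    have hdouble := Subgroup.card_dvd_of_le hle
    obtain ⟨c, hc⟩ := hdouble
    have hc2 : 2 ≤ c := by
      have hpos : 0 < Nat.card (Subgroup.closure (↑(insert x S) : Set A)) := Nat.card_pos
      rcases c with _ | _ | c
      · rw [mul_zero] at hc; omega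
      · exact absurd (Subgroup.eq_of_le_of_card_ge hle (le_of_eq (by rw [hc, zero_add, mul_one]))) hlt.ne
      · omega
    refine ⟨insert x S, ?_, ?_, Or.inr ?_⟩
    · simp only [Finset.mem_insert, not_or]
      exact ⟨fun e => hx (e ▸ one_mem _), h1⟩
    · have hxS : x ∉ S := fun e => hx (Subgroup.subset_closure e)
      rw [Finset.card_insert_of_notMem hxS, pow_succ, hc]
      exact Nat.mul_le_mul h2 hc2
    · have hpos : 0 < Nat.card (Subgroup.closure (S : Set A)) := Nat.card_pos
      rcases h3 with h3 | h3
      · exact absurd h3 htop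
      · rw [hc]; nlinarith

/-! ### Solvable permutation groups -/

theorem arith_regular {n d : ℕ} (hn : 2 ≤ n) (hd : 2 ^ d ≤ n) :
    n * (n - 1).descFactorial d ≤ 3 ^ (n - 1) := by
  by_cases h32 : n < 32
  · have hd4 : d < 5 := (Nat.pow_lt_pow_iff_right one_lt_two).mp (hd.trans_lt (by omega : n < 2 ^ 5))
    interval_cases d <;> interval_cases n <;> decide
  · have h1 : (n - 1).descFactorial d ≤ n ^ d :=
      (Nat.descFactorial_le_pow _ _).trans (Nat.pow_le_pow_left (Nat.sub_le n 1) d)
    set D := Nat.log 2 n with hD
    have hD5 : 5 ≤ D := Nat.le_log_of_pow_le one_lt_two (by omega)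
    have hdD : d ≤ D := Nat.le_log_of_pow_le one_lt_two hd
    have hlt : n ≤ 2 ^ (D + 1) := (Nat.lt_pow_succ_log_self one_lt_two n).le
    have hge : 2 ^ D ≤ n := Nat.pow_log_le_self 2 (by omega)
    have key : ∀ m, 5 ≤ m → 2 * ((m + 1) * (m + 1)) + 6 ≤ 3 * 2 ^ m := by
      intro m hm
      induction m, hm using Nat.le_induction with
      | base => norm_num
      | succ m hm ih => rw [pow_succ]; nlinarith
    have hk := key D hD5
    obtain ⟨j, hj⟩ : ∃ j, n - 1 = 2 * j ∨ n - 1 = 2 * j + 1 := ⟨(n - 1) / 2, by omega⟩
    calc n * (n - 1).descFactorial d ≤ n * n ^ d := Nat.mul_le_mul_left _ h1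
      _ = n ^ (d + 1) := (pow_succ' n d).symm
      _ ≤ n ^ (D + 1) := Nat.pow_le_pow_right (by omega) (by omega)
      _ ≤ (2 ^ (D + 1)) ^ (D + 1) := Nat.pow_le_pow_left hlt _
      _ = 2 ^ ((D + 1) * (D + 1)) := (pow_mul 2 _ _).symm
      _ ≤ 2 ^ (3 * j) := Nat.pow_le_pow_right (by norm_num) (by omega)
      _ = 8 ^ j := by rw [pow_mul]; norm_num
      _ ≤ 9 ^ j := Nat.pow_le_pow_left (by norm_num) j
      _ = 3 ^ (2 * j) := by rw [pow_mul]; norm_num
      _ ≤ 3 ^ (n - 1) := Nat.pow_le_pow_right (by norm_num) (by omega)

/-- The order of a solvable permutation group. -/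
theorem solvable_perm_card : ∀ n : ℕ, ∀ {Ω : Type v} [Finite Ω] [Nonempty Ω] (G : Subgroup (Equiv.Perm Ω))
    [Group.IsSolvable G], Nat.card Ω = n → Nat.card G ≤ 3 ^ (n - 1) := by
  intro n
  induction n using Nat.strong_induction_on with
  | _ n ih =>
    intro Ω _ _ G _ hn
    classical
    rcases subsingleton_or_nontrivial G with hG | hG
    · rw [Nat.card_unique]; exact Nat.one_le_pow _ _ (by norm_num)
    obtain ⟨A, hAn, hA1, hAc⟩ := exists_abelian_normal G
    let Q := MulAction.orbitRel.Quotient A Ω
    have : Finite Q := Quotient.finite _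
    by_cases ht : MulAction.IsPretransitive A Ω
    · -- regular abelian normal subgroup
      obtain ⟨ω⟩ := (inferInstance : Nonempty Ω)
      have hfree : ∀ a : A, a • ω = ω → a = 1 := by
        intro a ha
        refine Subtype.ext (FaithfulSMul.eq_of_smul_eq_smul (α := Ω) fun x => ?_)
        obtain ⟨b, rfl⟩ := MulAction.exists_smul_eq A ω x
        simp only [Subgroup.smul_def, Subgroup.coe_one, one_smul] at ha ⊢
        have hab : ((a : G) : Equiv.Perm Ω) * (b : G) = ((b : G) : Equiv.Perm Ω) * (a : G) :=
          congrArg Subtype.val (hAc _ a.2 _ b.2)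
        rw [← mul_smul, hab, mul_smul, ha]
      have hbij : Function.Bijective fun a : A => a • ω := by
        refine ⟨fun a b e => ?_, MulAction.exists_smul_eq A ω⟩
        exact inv_mul_eq_one.mp (hfree _ (by rw [mul_smul, inv_smul_eq_iff]; exact e.symm))
      have hcard : Nat.card A = n := (Nat.card_eq_of_bijective _ hbij).trans hn
      have hn2 : 2 ≤ n := by
        rw [← hcard]
        exact (Subgroup.one_lt_card_iff_ne_bot A).mpr hA1
      obtain ⟨S, hS, hS2, hS1⟩ := exists_small_generators A
      have := Fintype.ofFinite A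
      let St := MulAction.stabilizer G ω
      let E := {a : A // a ≠ 1}
      have hcj : ∀ (g : St) (a : A), (g : G) * a * (g : G)⁻¹ ∈ A := fun g a => hAn.conj_mem _ a.2 _
      let φ : St → (S ↪ E) := fun g =>
        ⟨fun s => ⟨⟨(g : G) * ((s : A) : G) * (g : G)⁻¹, hcj g s⟩, fun e => hS1 (by
            have e1 := congrArg Subtype.val e
            simp only [Subgroup.coe_one, conj_eq_one_iff] at e1
            have e2 : (s : A) = 1 := Subtype.ext e1
            exact e2 ▸ s.2)⟩, fun s t e => by
          simp only [E, Subtype.mk.injEq] at e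
          exact Subtype.ext (Subtype.ext (mul_left_cancel (mul_right_cancel e)))⟩
      have hφ : Function.Injective φ := by
        intro g h e
        have hs : ∀ a : A, (g : G) * a * (g : G)⁻¹ = (h : G) * a * (h : G)⁻¹ := by
          intro a
          have ha : a ∈ Subgroup.closure (S : Set A) := hS ▸ Subgroup.mem_top a
          induction ha using Subgroup.closure_induction with
          | mem a ha =>
            exact congrArg (fun z : E => ((z : A) : G)) (congrArg (fun f : S ↪ E => f ⟨a, ha⟩) e :)
          | one => simp
          | mul a b _ _ ha hb =>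
            rw [Subgroup.coe_mul, conj_mul.symm, ha, hb, conj_mul]
          | inv a _ ha => rw [Subgroup.coe_inv, ← conj_inv, ha, conj_inv]
        refine Subtype.ext (FaithfulSMul.eq_of_smul_eq_smul (α := Ω) fun x => ?_)
        obtain ⟨a, rfl⟩ := hbij.2 x
        show (g : G) • ((a : G) • ω) = (h : G) • ((a : G) • ω)
        have k1 : ∀ y : St, (y : G) • ((a : G) • ω) = ((y : G) * a * (y : G)⁻¹) • ω := fun y => by
          rw [mul_smul, mul_smul, inv_smul_eq_iff.mpr (MulAction.mem_stabilizer_iff.mp y.2).symm]
        rw [k1 g, k1 h, hs]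
      have hSt : Nat.card St ≤ (n - 1).descFactorial S.card := by
        refine (Nat.card_le_card_of_injective φ hφ).trans (le_of_eq ?_)
        rw [Nat.card_eq_fintype_card, Fintype.card_embedding_eq, Fintype.card_coe]
        congr 1
        simp only [E, ne_eq]
        rw [Fintype.card_subtype_compl, Fintype.card_subtype_eq, ← Nat.card_eq_fintype_card, hcard]
      have hG : Nat.card G ≤ n * Nat.card St := by
        rw [← Subgroup.index_mul_card St]
        refine Nat.mul_le_mul_right _ ?_
        rw [MulAction.index_stabilizer]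
        exact (Nat.card_mono (Set.toFinite _) (Set.subset_univ _)).trans (by rw [Nat.card_univ, hn])
      exact hG.trans ((Nat.mul_le_mul_left _ hSt).trans (arith_regular hn2 (hcard ▸ hS2)))
    · -- the orbits of `A` are blocks
      letI : MulAction G Q :=
        { smul := fun g => Quotient.map (g • ·) fun x y h => by
            obtain ⟨a, rfl⟩ := MulAction.orbitRel_apply.mp h
            refine MulAction.orbitRel_apply.mpr ⟨⟨g * a * g⁻¹, hAn.conj_mem _ a.2 g⟩, ?_⟩
            show (g * (a : G) * g⁻¹) • g • y = g • ((a : G) • y)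
            rw [← mul_smul, ← mul_smul]; group
          one_smul := fun q => Quotient.inductionOn q fun x => congrArg _ (one_smul G x)
          mul_smul := fun g h q => Quotient.inductionOn q fun x => congrArg _ (mul_smul g h x) }
      have hsplit : Nat.card Ω = ∑ᶠ q : Q, Nat.card (MulAction.orbitRel.Quotient.orbit q) := by
        have := Fintype.ofFinite Q
        rw [finsum_eq_sum_of_fintype, ← Nat.card_sigma,
          Nat.card_congr (MulAction.selfEquivSigmaOrbits' A Ω)]
      have hQ2 : 2 ≤ Nat.card Q := by
        by_contra hlt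
        refine ht ⟨fun x y => ?_⟩
        have : Subsingleton Q := Finite.card_le_one_iff_subsingleton.mp (by omega)
        exact MulAction.mem_orbit_iff.mp (MulAction.orbitRel_apply.mp (Quotient.exact
          (Subsingleton.elim (Quotient.mk (MulAction.orbitRel A Ω) y) (Quotient.mk _ x))))
      have hQn : Nat.card Q < n := by
        rw [← hn]
        refine lt_of_le_of_ne (Nat.card_le_card_of_surjective (Quotient.mk _) Quotient.mk_surjective)
          fun e => hA1 ((Subgroup.eq_bot_iff_forall A).mpr fun a ha => ?_)
        have hinj := ((Nat.bijective_iff_surjective_and_card (Quotient.mk (MulAction.orbitRel A Ω))).mpr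
          ⟨Quotient.mk_surjective, e.symm⟩).1
        refine FaithfulSMul.eq_of_smul_eq_smul (α := Ω) fun x => ?_
        rw [one_smul]
        exact hinj (Quotient.sound (MulAction.orbitRel_apply.mpr ⟨⟨a, ha⟩, rfl⟩))
      let K := (MulAction.toPermHom G Q).ker
      have hKperm : Nat.card (G ⧸ K) ≤ 3 ^ (Nat.card Q - 1) := by
        let R := (MulAction.toPermHom G Q).range
        have : Nonempty Q := Nonempty.map (Quotient.mk _) inferInstance
        refine le_of_eq_of_le (Nat.card_congr (QuotientGroup.quotientKerEquivRange _).toEquiv) ?_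
        haveI : Group.IsSolvable R := Group.isSolvable_of_surjective (MonoidHom.rangeRestrict_surjective _)
        exact ih _ hQn R rfl
      have hblock : ∀ q : Q, ∀ k : K, ∀ x ∈ MulAction.orbitRel.Quotient.orbit q,
          (k : G) • x ∈ MulAction.orbitRel.Quotient.orbit q := by
        intro q k x hx
        rw [MulAction.orbitRel.Quotient.mem_orbit] at hx ⊢
        have hk : MulAction.toPermHom G Q (k : G) = 1 := k.2
        have := congrArg (fun σ : Equiv.Perm Q => σ q) hk
        simp only [MulAction.toPermHom_apply, MulAction.toPerm_apply, Equiv.Perm.coe_one, id_eq] at this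
        conv_rhs => rw [← this, ← hx]
        rfl
      let ψ : ∀ q : Q, K →* Equiv.Perm (MulAction.orbitRel.Quotient.orbit q) := fun q =>
        { toFun := fun k =>
            { toFun := fun x => ⟨(k : G) • (x : Ω), hblock q k x x.2⟩
              invFun := fun x => ⟨((k⁻¹ : K) : G) • (x : Ω), hblock q k⁻¹ x x.2⟩
              left_inv := fun x => Subtype.ext (inv_smul_smul (k : G) _)
              right_inv := fun x => Subtype.ext (smul_inv_smul (k : G) _) }
          map_one' := Equiv.ext fun x => Subtype.ext (one_smul G _)
          map_mul' := fun k l => Equiv.ext fun x => Subtype.ext (mul_smul _ _ _) }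
      have := Fintype.ofFinite Q
      have hKcard : Nat.card K ≤ ∏ q : Q, 3 ^ (Nat.card (MulAction.orbitRel.Quotient.orbit q) - 1) := by
        refine le_trans (Nat.card_le_card_of_injective (MonoidHom.pi fun q => (ψ q).rangeRestrict) ?_) ?_
        · intro k l e
          refine Subtype.ext (FaithfulSMul.eq_of_smul_eq_smul (α := Ω) fun x => ?_)
          have e1 := congrArg Subtype.val (congrFun e (Quotient.mk _ x))
          exact congrArg Subtype.val (congrArg (fun σ : Equiv.Perm _ => σ ⟨x, MulAction.orbitRel.Quotient.mem_orbit.mpr rfl⟩) e1 :)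
        rw [Nat.card_pi]
        refine Finset.prod_le_prod' fun q _ => ?_
        haveI : Group.IsSolvable (ψ q).range := Group.isSolvable_of_surjective (MonoidHom.rangeRestrict_surjective _)
        haveI : Nonempty (MulAction.orbitRel.Quotient.orbit q) :=
          ⟨⟨q.out, MulAction.orbitRel.Quotient.mem_orbit.mpr q.out_eq⟩⟩
        refine ih _ ?_ (ψ q).range rfl
        rw [← hn]
        refine lt_of_le_of_ne (Nat.card_mono (Set.toFinite _) (Set.subset_univ _) |>.trans (by rw [Nat.card_univ])) ?_
        intro e
        have hall : MulAction.orbitRel.Quotient.orbit q = Set.univ :=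
          Set.eq_of_subset_of_ncard_le (Set.subset_univ _)
            (by rw [Set.ncard_univ, ← Nat.card_coe_set_eq]; omega) (Set.toFinite _)
        have : Subsingleton Q := ⟨fun a b => by
          obtain ⟨x, rfl⟩ := Quotient.mk_surjective a
          obtain ⟨y, rfl⟩ := Quotient.mk_surjective b
          exact (MulAction.orbitRel.Quotient.mem_orbit.mp (hall ▸ Set.mem_univ x)).trans
            (MulAction.orbitRel.Quotient.mem_orbit.mp (hall ▸ Set.mem_univ y)).symm⟩
        have := Finite.card_le_one_iff_subsingleton.mpr this
        omega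
      rw [Finset.prod_pow_eq_pow_sum] at hKcard
      rw [← Subgroup.index_mul_card K]
      refine (Nat.mul_le_mul hKperm hKcard).trans ?_
      rw [← pow_add]
      refine Nat.pow_le_pow_right (by norm_num) ?_
      have hsum2 : (∑ q : Q, (Nat.card (MulAction.orbitRel.Quotient.orbit q) - 1)) + Nat.card Q = n := by
        rw [← hn, hsplit, finsum_eq_sum_of_fintype, Nat.card_eq_fintype_card, ← Finset.card_univ,
          Finset.card_eq_sum_ones, ← Finset.sum_add_distrib]
        refine Finset.sum_congr rfl fun q _ => ?_
        haveI : Nonempty (MulAction.orbitRel.Quotient.orbit q) :=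
          ⟨⟨q.out, MulAction.orbitRel.Quotient.mem_orbit.mpr q.out_eq⟩⟩
        have : 0 < Nat.card (MulAction.orbitRel.Quotient.orbit q) := Nat.card_pos
        omega
      omega

theorem classBound_perm {Ω : Type v} [Finite Ω] [Nonempty Ω] {G : Type u} [Group G] [Finite G]
    [Group.IsSolvable G] (f : G →* Equiv.Perm Ω) : ClassBound f.range (3 ^ (Nat.card Ω - 1)) := by
  haveI : Group.IsSolvable f.range := Group.isSolvable_of_surjective (MonoidHom.rangeRestrict_surjective _)
  exact classBound_of_card (solvable_perm_card _ f.range rfl)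

end CfsgLib.SolvClass
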