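import Cfsg.Agent.Lib.SolvClass.Linear

/-!
The bound `3 ^ (p ^ n - 1)` for the classes of irreducible solvable groups preserving a pairing on `p ^ (2 * n)`
points.
-/

set_option autoImplicit false
set_option linter.unusedSectionVars false
set_option linter.style.haveILetI false

namespace CfsgLib.SolvClass

universe u v w

open Cfsg

/-! ### Arithmetic -/

theorem arith_general {p n : ℕ} (hp : p.Prime) (hn : 1 ≤ n)
    (hexc : (7 ≤ p ∧ n = 1) ∨ (5 ≤ p ∧ 2 ≤ n) ∨ (p = 3 ∧ 3 ≤ n) ∨ (p = 2 ∧ 6 ≤ n)) :
    p ^ (n * (2 * n + 1)) ≤ 3 ^ (p ^ n - 1) := by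
  have key : ∀ m, p ^ (m * (2 * m + 1)) ≤ 3 ^ (p ^ m - 1) → 4 * m + 3 ≤ p ^ m →
      p ^ ((m + 1) * (2 * (m + 1) + 1)) ≤ 3 ^ (p ^ (m + 1) - 1) := by
    intro m ih h4
    obtain ⟨q, rfl⟩ : ∃ q, p = q + 1 := ⟨p - 1, by have := hp.two_le; omega⟩
    have hq : q + 1 ≤ 3 ^ q := by
      clear hp hn hexc ih h4
      induction q with
      | zero => simp
      | succ q ihq => rw [pow_succ]; omega
    have hpos : 1 ≤ (q + 1) ^ m := Nat.one_le_pow _ _ (by omega)
    calc (q + 1) ^ ((m + 1) * (2 * (m + 1) + 1)) = (q + 1) ^ (m * (2 * m + 1)) * (q + 1) ^ (4 * m + 3) := by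
          rw [← pow_add]; congr 1; ring
      _ ≤ 3 ^ ((q + 1) ^ m - 1) * (3 ^ q) ^ (q + 1) ^ m := Nat.mul_le_mul ih
          ((Nat.pow_le_pow_right (by omega) h4).trans (Nat.pow_le_pow_left hq _))
      _ = 3 ^ ((q + 1) ^ (m + 1) - 1) := by
          rw [← pow_mul, ← pow_add]; congr 1
          rw [pow_succ', add_mul, one_mul]; omega
  have h2 := hp.two_le
  rcases hexc with ⟨h7, rfl⟩ | ⟨h5, h2n⟩ | ⟨rfl, h3n⟩ | ⟨rfl, h6n⟩
  · clear key hn h2 hp
    induction p, h7 using Nat.le_induction with
    | base => norm_num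
    | succ p h7 ih =>
      simp only [pow_one] at ih ⊢
      calc (p + 1) ^ 3 ≤ 3 * p ^ 3 := by nlinarith [Nat.mul_le_mul_right (p * p) h7, Nat.mul_le_mul_right p h7]
        _ ≤ 3 * 3 ^ (p - 1) := Nat.mul_le_mul_left _ ih
        _ = 3 ^ (p + 1 - 1) := by rw [← pow_succ']; congr 1; omega
  · have h4 : ∀ m, 2 ≤ m → 4 * m + 3 ≤ p ^ m := fun m hm =>
      le_trans (by induction m, hm using Nat.le_induction with
        | base => norm_num
        | succ m hm ih => rw [pow_succ]; omega) (Nat.pow_le_pow_left h5 m)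
    induction n, h2n using Nat.le_induction with
    | base =>
      rcases Nat.lt_or_ge p 9 with h9 | h9
      · interval_cases p <;> first | (norm_num; done) | (exfalso; revert hp; norm_num)
      · obtain ⟨q, rfl⟩ : ∃ q, p = q + 1 := ⟨p - 1, by omega⟩
        have hq : q + 1 ≤ 3 ^ q := Nat.lt_pow_self (by norm_num)
        refine le_trans (Nat.pow_le_pow_left hq _) ?_
        rw [← pow_mul]
        refine Nat.pow_le_pow_right (by norm_num) ?_
        have : (q + 1) ^ 2 = q * q + 2 * q + 1 := by ring
        have : 8 * q ≤ q * q := Nat.mul_le_mul_right q (by omega)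
        omega
    | succ m hm ih => exact key m (ih (by omega) ) (h4 m hm)
  · induction n, h3n using Nat.le_induction with
    | base => norm_num
    | succ m hm ih =>
      refine key m (ih (by omega)) ?_
      clear ih key
      induction m, hm using Nat.le_induction with
      | base => norm_num
      | succ m hm ih => rw [pow_succ]; omega
  · induction n, h6n using Nat.le_induction with
    | base => norm_num
    | succ m hm ih =>
      refine key m (ih (by omega)) ?_
      clear ih key
      induction m, hm using Nat.le_induction with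
      | base => norm_num
      | succ m hm ih => rw [pow_succ]; omega

theorem divisor_pairs {t m d : ℕ} (ht : 2 ≤ t) (h : t * m = d) (hd : 1 ≤ d) :
    t ≤ d ∧ m = d / t ∧ t ∣ d := by
  refine ⟨Nat.le_of_dvd hd ⟨m, h.symm⟩, ?_, ⟨m, h.symm⟩⟩
  rw [← h, Nat.mul_div_cancel_left _ (by omega)]

/-! ### Tables -/

theorem fbound_one (p : ℕ) [Fact p.Prime] : FBound.{u} p 1 (p - 1) := by
  intro X _ _ _ V _ _ _ ρ hρ hdim _
  haveI : Nontrivial V := Module.nontrivial_of_finrank_pos (R := ZMod p) (by omega)
  have hall : ∀ g : X, g ∈ scal ρ := fun g => by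
    obtain ⟨v, hv⟩ := exists_ne (0 : V)
    obtain ⟨c, hc⟩ := (finrank_eq_one_iff_of_nonzero' v hv).mp hdim (ρ g v)
    refine ⟨Units.mk0 c fun h => ?_, fun x => ?_⟩
    · rw [h, zero_smul] at hc
      exact hv ((ρ g).map_eq_zero_iff.mp hc.symm)
    · obtain ⟨a, rfl⟩ := (finrank_eq_one_iff_of_nonzero' v hv).mp hdim x
      rw [map_smul, Units.val_mk0, smul_comm c a, hc]
  refine classBound_of_card (le_trans ?_ ((card_scal_le ρ hρ).trans (le_of_eq (by rw [Nat.card_zmod]))))
  exact Nat.card_le_card_of_injective (fun g => (⟨g, hall g⟩ : scal ρ)) fun a b h => congrArg Subtype.val h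

theorem classBound_perm_three : ClassBound (Equiv.Perm (Fin 3)) 3 := by
  have h : ∀ x : Equiv.Perm (Fin 3), x ≠ 1 → Fintype.card {y // x * y = y * x} ≤ 3 := by decide
  refine (classBound_of_centralizer ({1} : Set (Equiv.Perm (Fin 3))) rfl (c := 3) (by norm_num) fun x hx => ?_).mono
    (by simp)
  refine le_trans (le_of_eq ?_) (h x hx)
  rw [← Nat.card_eq_fintype_card]
  rfl

theorem fbound_two_two [Fact (Nat.Prime 2)] : FBound.{u} 2 2 3 := by
  intro X _ _ _ V _ _ _ ρ hρ hdim _
  classical
  haveI : Finite V := Module.finite_of_finite (ZMod 2)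
  have := Fintype.ofFinite V
  have h3 : Fintype.card {v : V // v ≠ 0} = Fintype.card (Fin 3) := by
    simp only [ne_eq]
    rw [Fintype.card_subtype_compl, Fintype.card_subtype_eq, ← Nat.card_eq_fintype_card,
      Module.natCard_eq_pow_finrank (K := ZMod 2), hdim, Nat.card_zmod, Fintype.card_fin]
    norm_num
  let φ : X →* Equiv.Perm {v : V // v ≠ 0} := MonoidHom.mk'
    (fun g => (ρ g).toEquiv.subtypeEquiv fun v => ((ρ g).map_ne_zero_iff).symm)
    fun g h => Equiv.ext fun v => Subtype.ext (by simp)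
  have hφ : Function.Injective φ := fun g h e => hρ (LinearEquiv.ext fun v => by
    by_cases hv : v = 0
    · rw [hv, map_zero, map_zero]
    · exact congrArg Subtype.val (DFunLike.congr_fun e (⟨v, hv⟩ : {v : V // v ≠ 0})))
  exact classBound_perm_three.of_injective ((Fintype.equivOfCardEq h3).permCongrHom.toMonoidHom.comp φ)
    (((Fintype.equivOfCardEq h3).permCongrHom).injective.comp hφ)

section tables

variable [Fact (Nat.Prime 2)] [Fact (Nat.Prime 3)]

theorem fbound_two_three : FBound.{u} 2 3 21 := by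
  refine fbound_of (by norm_num) (by norm_num) (Or.inl rfl) (fun t m ht htm => ?_) (fun e f he hef => ?_)
  · obtain ⟨h1, rfl, h3⟩ := divisor_pairs ht htm (by norm_num)
    interval_cases t <;> norm_num at h3
    exact ⟨_, fbound_one 2, by norm_num⟩
  · obtain ⟨h1, rfl, h3⟩ := divisor_pairs he hef (by norm_num)
    interval_cases e <;> norm_num at h3
    exact Or.inl ⟨1, pairBound_one _, by norm_num⟩

theorem fbound_two_four : FBound.{u} 2 4 27 := by
  refine fbound_of (by norm_num) (by norm_num) (Or.inl rfl) (fun t m ht htm => ?_) (fun e f he hef => ?_)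
  · obtain ⟨h1, rfl, h3⟩ := divisor_pairs ht htm (by norm_num)
    interval_cases t <;> norm_num at h3
    · exact ⟨_, fbound_two_two, by norm_num⟩
    · exact ⟨_, fbound_one 2, by norm_num⟩
  · obtain ⟨h1, rfl, h3⟩ := divisor_pairs he hef (by norm_num)
    interval_cases e <;> norm_num at h3
    · exact Or.inl ⟨1, pairBound_two_odd (by decide), by norm_num⟩
    · refine Or.inr ⟨rfl, 3, by norm_num, fun i hi h => ?_, by norm_num⟩
      interval_cases i <;> revert h <;> norm_num

theorem fbound_two_five : FBound.{u} 2 5 155 := by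
  refine fbound_of (by norm_num) (by norm_num) (Or.inl rfl) (fun t m ht htm => ?_) (fun e f he hef => ?_)
  · obtain ⟨h1, rfl, h3⟩ := divisor_pairs ht htm (by norm_num)
    interval_cases t <;> norm_num at h3
    exact ⟨_, fbound_one 2, by norm_num⟩
  · obtain ⟨h1, rfl, h3⟩ := divisor_pairs he hef (by norm_num)
    interval_cases e <;> norm_num at h3
    exact Or.inl ⟨1, pairBound_one _, by norm_num⟩

theorem fbound_two_six : FBound.{u} 2 6 2187 := by
  refine fbound_of (by norm_num) (by norm_num) (Or.inl rfl) (fun t m ht htm => ?_) (fun e f he hef => ?_)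
  · obtain ⟨h1, rfl, h3⟩ := divisor_pairs ht htm (by norm_num)
    interval_cases t <;> norm_num at h3
    · exact ⟨_, fbound_two_three, by norm_num⟩
    · exact ⟨_, fbound_two_two, by norm_num⟩
    · exact ⟨_, fbound_one 2, by norm_num⟩
  · obtain ⟨h1, rfl, h3⟩ := divisor_pairs he hef (by norm_num)
    interval_cases e <;> norm_num at h3
    · exact Or.inl ⟨81, pairBound_three (by norm_num), by norm_num⟩
    · exact Or.inl ⟨1, pairBound_two_odd (by decide), by norm_num⟩
    · exact Or.inl ⟨1, pairBound_one _, by norm_num⟩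

theorem fbound_two_eight : FBound.{u} 2 8 (3 ^ 15) := by
  refine fbound_of (by norm_num) (by norm_num) (Or.inl rfl) (fun t m ht htm => ?_) (fun e f he hef => ?_)
  · obtain ⟨h1, rfl, h3⟩ := divisor_pairs ht htm (by norm_num)
    interval_cases t <;> norm_num at h3
    · exact ⟨_, fbound_two_four, by norm_num⟩
    · exact ⟨_, fbound_two_two, by norm_num⟩
    · exact ⟨_, fbound_one 2, by norm_num⟩
  · obtain ⟨h1, rfl, h3⟩ := divisor_pairs he hef (by norm_num)
    interval_cases e <;> norm_num at h3
    · exact Or.inl ⟨81, pairBound_three (by norm_num), by norm_num⟩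
    · exact Or.inl ⟨1, pairBound_two_odd (by decide), by norm_num⟩
    · exact Or.inl ⟨1, pairBound_one _, by norm_num⟩

theorem fbound_two_ten : FBound.{u} 2 10 (3 ^ 31) := by
  refine fbound_of (by norm_num) (by norm_num) (Or.inl rfl) (fun t m ht htm => ?_) (fun e f he hef => ?_)
  · obtain ⟨h1, rfl, h3⟩ := divisor_pairs ht htm (by norm_num)
    interval_cases t <;> norm_num at h3
    · exact ⟨_, fbound_two_five, by norm_num⟩
    · exact ⟨_, fbound_two_two, by norm_num⟩
    · exact ⟨_, fbound_one 2, by norm_num⟩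
  · obtain ⟨h1, rfl, h3⟩ := divisor_pairs he hef (by norm_num)
    interval_cases e <;> norm_num at h3
    · exact Or.inl ⟨81, pairBound_three (by norm_num), by norm_num⟩
    · exact Or.inl ⟨1, pairBound_two_odd (by decide), by norm_num⟩
    · exact Or.inl ⟨1, pairBound_one _, by norm_num⟩

end tables

theorem classBound_of_fbound_aux {A : Type u} [CommGroup A] {p d M : ℕ} [Fact p.Prime]
    (h : FBound.{u} p d M) {Y : Type u} [Group Y] [Finite Y] [Group.IsSolvable Y] (ρ : Y →* MulAut A)
    (hA : Nat.card A = p ^ d) (hinj : Function.Injective ρ)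
    (hirr : ∀ U : Subgroup A, (∀ y, ∀ u ∈ U, ρ y u ∈ U) → U = ⊥ ∨ U = ⊤)
    (V : Type u) [AddCommGroup V] [Module (ZMod p) V] [Finite V] (e : Additive A ≃+ V) : ClassBound Y M := by
  let ea : A → V := fun a => e (Additive.ofMul a)
  let ei : V → A := fun v => (e.symm v).toMul
  let f : Y → (V ≃+ V) := fun y => e.symm.trans ((MulEquiv.toAdditive (ρ y)).trans e)
  have hf : ∀ y v, f y v = ea (ρ y (ei v)) := fun _ _ => rfl
  have hei : ∀ a, ei (ea a) = a := fun a => by simp [ea, ei]
  let g : Y → (V ≃ₗ[ZMod p] V) := fun y => (f y).toLinearEquiv fun c x => ZMod.map_smul (f y).toAddMonoidHom c x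
  let ρ' : Y →* (V ≃ₗ[ZMod p] V) :=
    { toFun := g
      map_one' := LinearEquiv.ext fun x => by
        show f 1 x = x
        rw [hf, map_one]
        simp [ea, ei]
      map_mul' := fun y z => LinearEquiv.ext fun x => by
        show f (y * z) x = f y (f z x)
        rw [hf, hf, hf, hei, map_mul, MulAut.mul_apply] }
  have hap : ∀ y v, ρ' y v = ea (ρ y (ei v)) := hf
  refine h Y V ρ' (fun y z e' => hinj (MulEquiv.ext fun a => ?_)) ?_ fun U hU => ?_
  · have := congrArg ei (LinearEquiv.congr_fun e' (ea a))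
    rwa [hap, hap, hei, hei, hei] at this
  · have h1 := Module.natCard_eq_pow_finrank (K := ZMod p) (V := V)
    rw [← Nat.card_congr e.toEquiv, Nat.card_congr Additive.toMul, hA, Nat.card_zmod] at h1
    exact (Nat.pow_right_injective (Fact.out : p.Prime).two_le h1).symm
  · let S : Subgroup A := (U.toAddSubgroup.comap e.toAddMonoidHom).toSubgroup'
    have hS : ∀ v, ei v ∈ S ↔ v ∈ U := fun v => by
      show e (Additive.ofMul (e.symm v).toMul) ∈ U ↔ v ∈ U
      simp
    rcases hirr S (fun y u hu => by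
        have h1 := hU y (ea u) hu
        rw [hap, hei] at h1
        exact h1) with h1 | h1
    · refine Or.inl ((Submodule.eq_bot_iff U).mpr fun x hx => ?_)
      have h2 := (hS x).mpr hx
      rw [h1, Subgroup.mem_bot] at h2
      have : e.symm x = 0 := h2
      rw [← e.apply_symm_apply x, this, map_zero]
    · exact Or.inr (eq_top_iff.mpr fun x _ => (hS x).mp (h1 ▸ Subgroup.mem_top _))

/-- A pairing on a linear group. -/
theorem classBound_of_fbound {A : Type u} [CommGroup A] [Finite A] {p d M : ℕ} [Fact p.Prime]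
    (h : FBound.{u} p d M) {Y : Type u} [Group Y] [Finite Y] [Group.IsSolvable Y] (ρ : Y →* MulAut A)
    (hexp : ∀ a : A, a ^ p = 1) (hA : Nat.card A = p ^ d) (hinj : Function.Injective ρ)
    (hirr : ∀ U : Subgroup A, (∀ y, ∀ u ∈ U, ρ y u ∈ U) → U = ⊥ ∨ U = ⊤) : ClassBound Y M := by
  letI : Module (ZMod p) (Additive A) := AddCommGroup.zmodModule fun a => hexp a.toMul
  haveI : Finite (Additive A) := Finite.of_equiv A Additive.ofMul
  exact classBound_of_fbound_aux h ρ hA hinj hirr (Additive A) (AddEquiv.refl _)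

/-- The irreducible bound for the small orders needed by the scalar case. -/
theorem irreducible_small : IrreducibleBound.{u, u, w} 4 := by
  intro p n hp hpn A _ _ k _ ω Y _ _ _ ρ hexp hA hinj hω hirr hn
  haveI : Fact (Nat.Prime 2) := ⟨Nat.prime_two⟩
  haveI : Fact (Nat.Prime 3) := ⟨Nat.prime_three⟩
  have hp4 : p ≤ 4 := (Nat.le_self_pow (by omega) p).trans hpn
  have hn2 : n ≤ 2 := (Nat.pow_le_pow_iff_right one_lt_two).mp ((Nat.pow_le_pow_left hp.two_le n).trans hpn)
  have := hp.two_le
  interval_cases p <;> interval_cases n <;>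
    first | (exfalso; revert hp; norm_num; done) | (exfalso; revert hpn; norm_num; done) | skip
  · exact (classBound_plane ω ρ hp hA hexp hinj hω).mono (by norm_num)
  · exact classBound_of_fbound fbound_two_four ρ hexp hA hinj hirr
  · exact (classBound_plane ω ρ hp hA hexp hinj hω).mono (by norm_num)

theorem fbound_three_two [Fact (Nat.Prime 3)] : FBound.{u} 3 2 24 := by
  refine fbound_of (by norm_num) (by norm_num) (Or.inr ⟨fun p n hp hpn => irreducible_small p n hp (hpn.trans (by norm_num)), by norm_num⟩)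
    (fun t m ht htm => ?_) (fun e f he hef => ?_)
  · obtain ⟨h1, rfl, h3⟩ := divisor_pairs ht htm (by norm_num)
    interval_cases t
    exact ⟨_, fbound_one 3, by norm_num⟩
  · obtain ⟨h1, rfl, h3⟩ := divisor_pairs he hef (by norm_num)
    interval_cases e
    exact Or.inl ⟨1, pairBound_one _, by norm_num⟩

theorem fbound_three_four [Fact (Nat.Prime 3)] : FBound.{u} 3 4 (3 ^ 8) := by
  refine fbound_of (by norm_num) (by norm_num) (Or.inr ⟨irreducible_small, by norm_num⟩)
    (fun t m ht htm => ?_) (fun e f he hef => ?_)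
  · obtain ⟨h1, rfl, h3⟩ := divisor_pairs ht htm (by norm_num)
    interval_cases t <;> norm_num at h3
    · exact ⟨_, fbound_three_two, by norm_num⟩
    · exact ⟨_, fbound_one 3, by norm_num⟩
  · obtain ⟨h1, rfl, h3⟩ := divisor_pairs he hef (by norm_num)
    interval_cases e <;> norm_num at h3
    · exact Or.inl ⟨12, pairBound_two _, by norm_num⟩
    · exact Or.inl ⟨1, pairBound_one _, by norm_num⟩

/-- The irreducible bound. -/
theorem irreducibleBound (N : ℕ) : IrreducibleBound.{u, u, w} N := by
  intro p n hp hpn A _ _ k _ ω Y _ _ _ ρ hexp hA hinj hω hirr hn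
  haveI := Fact.mk hp
  haveI : Fact (Nat.Prime 2) := ⟨Nat.prime_two⟩
  haveI : Fact (Nat.Prime 3) := ⟨Nat.prime_three⟩
  by_cases hexc : (7 ≤ p ∧ n = 1) ∨ (5 ≤ p ∧ 2 ≤ n) ∨ (p = 3 ∧ 3 ≤ n) ∨ (p = 2 ∧ 6 ≤ n)
  · refine classBound_of_card ((card_le_isometries ω ρ hp (by omega) hA hexp hinj hω).trans
      (le_trans ?_ (arith_general hp hn hexc)))
    refine (Nat.mul_le_mul_right _ (Nat.sub_le _ _)).trans (le_of_eq ?_)
    rw [← pow_add]
    congr 1
    rw [Nat.choose_two_right, mul_assoc 2 n, Nat.mul_div_cancel_left _ two_pos]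
    obtain ⟨n, rfl⟩ := Nat.exists_eq_add_of_le hn
    rw [show 2 * (1 + n) - 1 = 2 * n + 1 by omega]
    ring
  · have hp5 : p ≤ 5 := by
      by_contra hlt
      have h7 : 7 ≤ p := by
        by_contra h
        have : p = 6 := by omega
        rw [this] at hp; norm_num at hp
      omega
    have := hp.two_le
    interval_cases p <;> first | (exfalso; revert hp; norm_num; done) | skip
    · have : n ≤ 5 := by omega
      interval_cases n
      · exact (classBound_plane ω ρ hp hA hexp hinj hω).mono (by norm_num)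
      · exact classBound_of_fbound fbound_two_four ρ hexp hA hinj hirr
      · exact classBound_of_fbound fbound_two_six ρ hexp hA hinj hirr
      · exact classBound_of_fbound fbound_two_eight ρ hexp hA hinj hirr
      · exact classBound_of_fbound fbound_two_ten ρ hexp hA hinj hirr
    · have : n ≤ 2 := by omega
      interval_cases n
      · exact (classBound_plane ω ρ hp hA hexp hinj hω).mono (by norm_num)
      · exact classBound_of_fbound fbound_three_four ρ hexp hA hinj hirr
    · obtain rfl : n = 1 := by omega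
      exact (classBound_plane ω ρ hp hA hexp hinj hω).mono (by norm_num)

end CfsgLib.SolvClass
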