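import Cfsg.Agent.Lib.SolvClass.Structure
import Cfsg.Agent.Lib.SolvClass.Decomp

/-!
Subgroups of `G ⧸ Fit(G)` for a solvable complex linear group `G` of degree `r` have at most `3 ^ (r - 1)`
classes, given the bound for irreducible symplectic groups.
-/

set_option autoImplicit false
set_option linter.unusedSectionVars false
set_option linter.style.haveILetI false

namespace CfsgLib.SolvClass

universe u v w

open Cfsg

/-- The Fitting quotient of a group is bounded through a family of quotients separating its points. -/
theorem classBound_fitting {ι : Type v} [Fintype ι] {B : Type u} [Group B] [Finite B]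
    (K : ι → Subgroup B) [∀ i, (K i).Normal] (hK : ∀ b : B, (∀ i, b ∈ K i) → b = 1) {m : ι → ℕ}
    (h : ∀ i, ClassBound ((B ⧸ K i) ⧸ fittingSubgroup (B ⧸ K i)) (m i)) :
    ClassBound (B ⧸ fittingSubgroup B) (∏ i, m i) := by
  classical
  let f : ∀ i, B →* (B ⧸ K i) ⧸ fittingSubgroup (B ⧸ K i) := fun i =>
    (QuotientGroup.mk' _).comp (QuotientGroup.mk' (K i))
  let L : Subgroup B := ⨅ i, (f i).ker
  haveI : L.Normal := Subgroup.normal_iInf_normal fun i => inferInstance
  have hL : L ≤ fittingSubgroup B := by
    haveI : ∀ i, Group.IsNilpotent (fittingSubgroup (B ⧸ K i)) := fun i => CfsgLib.isNilpotent_fittingSubgroup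
    let j : L →* ∀ i, fittingSubgroup (B ⧸ K i) :=
      MonoidHom.pi fun i => ((QuotientGroup.mk' (K i)).comp L.subtype).codRestrict _ fun x =>
        (QuotientGroup.eq_one_iff _).mp (Subgroup.mem_iInf.mp x.2 i)
    have hj : Function.Injective j := (injective_iff_map_eq_one j).mpr fun x hx => Subtype.ext
      (hK _ fun i => (QuotientGroup.eq_one_iff (x : B)).mp (congrArg Subtype.val (congrFun hx i) :))
    haveI : Group.IsNilpotent j.range := inferInstance
    exact CfsgLib.le_fittingSubgroup (Group.nilpotent_of_mulEquiv (MonoidHom.ofInjective hj).symm)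
  have hb : ClassBound (B ⧸ L) (∏ i, m i) := by
    refine classBound_pi h (fun i => QuotientGroup.lift L (f i) (iInf_le _ i)) fun x hx => ?_
    induction x using QuotientGroup.induction_on with | _ x => ?_
    exact (QuotientGroup.eq_one_iff x).mpr (Subgroup.mem_iInf.mpr fun i => hx i)
  exact hb.of_surjective (QuotientGroup.map L (fittingSubgroup B) (MonoidHom.id B) hL)
    (fun x => QuotientGroup.induction_on x fun b => ⟨(b : B ⧸ L), rfl⟩)

/-- The main bound. -/
theorem fitting_quotient_bound (hirr : ∀ N, IrreducibleBound.{u, u, 0} N) :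
    ∀ (r : ℕ) (G : Type u) [Group G] [Finite G] [Group.IsSolvable G] (V : Type v) [AddCommGroup V] [Module ℂ V]
      [FiniteDimensional ℂ V] (ρ : G →* (V ≃ₗ[ℂ] V)), Function.Injective ρ → Module.finrank ℂ V = r → 1 ≤ r →
      ClassBound (G ⧸ fittingSubgroup G) (3 ^ (r - 1)) := by
  intro r
  induction r using Nat.strong_induction_on with
  | _ r ih =>
    intro G _ _ _ V _ _ _ ρ hρ hr hr1
    classical
    haveI : Nontrivial V := Module.nontrivial_of_finrank_pos (R := ℂ) (by omega)
    by_cases hns : ∀ B : Subgroup G, B.Normal → (∀ a ∈ B, ∀ b ∈ B, a * b = b * a) → B ≤ scal ρ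
    · -- every abelian normal subgroup is scalar
      obtain ⟨A, instA, hfin, ω, σ, hker, hω, hsize, -, hiso⟩ := exists_pairing ρ hρ
        fun B hB hab => hns B (by haveI := hB; infer_instance) hab
      obtain ⟨m, hm, hb⟩ := pairing_bound (hirr r) (Nat.card A) A ω (G ⧸ σ.ker) (QuotientGroup.kerLift σ) rfl
        (by rwa [← hr]) (QuotientGroup.kerLift_injective σ) (fun q => QuotientGroup.induction_on q hω)
        (fun U hU => hiso hns U fun c u hu => hU (c : G ⧸ σ.ker) u hu)
      refine (hb.of_injective (QuotientGroup.quotientMulEquivOfEq hker.symm).toMonoidHom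
        (MulEquiv.injective _)).mono (Nat.pow_le_pow_right (by norm_num) ?_)
      have : m ≤ r := Nat.mul_self_le_mul_self_iff.mp (by rw [← hm]; rwa [← hr])
      omega
    · push Not at hns
      obtain ⟨A, hAn, hAc, hAs⟩ := hns
      rcases exists_blocks ρ hAc (Nat.cast_ne_zero.mpr Nat.card_pos.ne') with hfield | ⟨D, hD2, -⟩
      · exfalso
        refine hAs fun a ha => ?_
        obtain ⟨μ, hμ⟩ := Module.End.exists_eigenvalue (ρ a : V →ₗ[ℂ] V)
        obtain ⟨x, hx⟩ := hμ.exists_hasEigenvector
        have hz : (ρ a : V →ₗ[ℂ] V) - algebraMap ℂ (Module.End ℂ V) μ = 0 := by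
          by_contra hne
          obtain ⟨y, hy, hxy⟩ := hfield _ (sub_mem (mem_alg ρ ha) (Subalgebra.algebraMap_mem _ μ)) hne
          rw [alg_comm ρ hAc (sub_mem (mem_alg ρ ha) (Subalgebra.algebraMap_mem _ μ)) hy] at hxy
          refine hx.2 ?_
          have h1 := LinearMap.congr_fun hxy x
          simp only [Module.End.mul_apply, LinearMap.sub_apply, Module.algebraMap_end_apply,
            Module.End.one_apply] at h1
          rw [hx.apply_eq_smul, sub_self, map_zero] at h1
          exact h1.symm
        have hμ0 : μ ≠ 0 := fun h => hx.2 ((ρ a).map_eq_zero_iff.mp (by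
          show (ρ a : V →ₗ[ℂ] V) x = 0
          rw [hx.apply_eq_smul, h, zero_smul]))
        exact ⟨Units.mk0 μ hμ0, fun v => sub_eq_zero.mp (LinearMap.congr_fun hz v)⟩
      · let B := D.permHom.ker
        let f : ∀ e : D.E, B →* _ := fun e => (D.res e).comp (Subgroup.inclusion (D.ker_le_stab e))
        have hdim : ∀ e : D.E, 1 ≤ Module.finrank ℂ (LinearMap.range (e : Module.End ℂ V)) := fun e =>
          Nat.one_le_iff_ne_zero.mpr fun h =>
            D.ne_zero e e.2 (LinearMap.range_eq_bot.mp (Submodule.finrank_eq_zero.mp h))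
        have hsum := D.sum_finrank
        rw [hr] at hsum
        have hlt : ∀ e : D.E, Module.finrank ℂ (LinearMap.range (e : Module.End ℂ V)) < r := by
          intro e
          obtain ⟨e', he'⟩ : ∃ e' : D.E, e' ≠ e :=
            Fintype.exists_ne_of_one_lt_card (by rw [Fintype.card_coe]; omega) e
          rw [← hsum]
          exact Finset.single_lt_sum (f := fun d : D.E => Module.finrank ℂ (LinearMap.range (d : Module.End ℂ V)))
            he' (Finset.mem_univ e) (Finset.mem_univ e') (hdim e') fun _ _ _ => Nat.zero_le _
        have hB : ClassBound (B ⧸ fittingSubgroup B)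
            (∏ e : D.E, 3 ^ (Module.finrank ℂ (LinearMap.range (e : Module.End ℂ V)) - 1)) :=
          classBound_fitting (fun e => (f e).ker) (fun b hb => D.eq_one_of_res hρ b fun e => hb e) fun e =>
            ih _ (hlt e) (B ⧸ (f e).ker) _ (QuotientGroup.kerLift (f e)) (QuotientGroup.kerLift_injective _)
              rfl (hdim e)
        -- assemble
        let F' : Subgroup G := (fittingSubgroup B).map B.subtype
        haveI : (fittingSubgroup B).Characteristic := CfsgLib.Isolated.fitting_char B
        haveI : F'.Normal := inferInstance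
        have hF' : F' ≤ fittingSubgroup G := by
          haveI : Group.IsNilpotent (fittingSubgroup B) := CfsgLib.isNilpotent_fittingSubgroup
          exact CfsgLib.le_fittingSubgroup (Group.nilpotent_of_surjective
            ((fittingSubgroup B).equivMapOfInjective B.subtype B.subtype_injective).toMonoidHom
            (MulEquiv.surjective _))
        haveI : Nonempty D.E := Finset.Nonempty.to_subtype (Finset.card_pos.mp (by omega))
        have hperm : ClassBound (G ⧸ B) (3 ^ (D.E.card - 1)) := by
          have h := classBound_perm D.permHom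
          rw [Nat.card_eq_fintype_card, Fintype.card_coe] at h
          exact h.of_injective (QuotientGroup.quotientKerEquivRange D.permHom).toMonoidHom (MulEquiv.injective _)
        have hGF : ClassBound (G ⧸ F')
            ((∏ e : D.E, 3 ^ (Module.finrank ℂ (LinearMap.range (e : Module.End ℂ V)) - 1)) * 3 ^ (D.E.card - 1)) := by
          have hle : F' ≤ B := Subgroup.map_subtype_le _
          refine classBound_of_hom (QuotientGroup.map F' B (MonoidHom.id G) hle) ?_ hperm
          let u : B →* (QuotientGroup.map F' B (MonoidHom.id G) hle).ker :=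
            ((QuotientGroup.mk' F').comp B.subtype).codRestrict _ fun b => (QuotientGroup.eq_one_iff _).mpr b.2
          refine hB.of_surjective (QuotientGroup.lift (fittingSubgroup B) u fun b hb =>
            MonoidHom.mem_ker.mpr (Subtype.ext ((QuotientGroup.eq_one_iff _).mpr ⟨b, hb, rfl⟩))) ?_
          rintro ⟨x, hx⟩
          induction x using QuotientGroup.induction_on with | _ x => ?_
          exact ⟨((⟨x, (QuotientGroup.eq_one_iff x).mp hx⟩ : B) : B ⧸ fittingSubgroup B), rfl⟩
        refine ((hGF.of_surjective (QuotientGroup.map F' (fittingSubgroup G) (MonoidHom.id G) hF')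
          fun x => QuotientGroup.induction_on x fun b => ⟨(b : G ⧸ F'), rfl⟩)).mono ?_
        rw [Finset.prod_pow_eq_pow_sum, ← pow_add]
        refine Nat.pow_le_pow_right (by norm_num) ?_
        have : (∑ e : D.E, (Module.finrank ℂ (LinearMap.range (e : Module.End ℂ V)) - 1)) + D.E.card = r := by
          rw [← hsum, ← Fintype.card_coe D.E, ← Finset.card_univ, Finset.card_eq_sum_ones, ← Finset.sum_add_distrib]
          exact Finset.sum_congr rfl fun e _ => Nat.sub_add_cancel (hdim e)
        omega

end CfsgLib.SolvClass
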