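import Cfsg.Agent.Lib.SolvClass.Pairing

/-!
The number of automorphisms preserving a pairing, and the rank two case.
-/

set_option autoImplicit false
set_option linter.unusedSectionVars false
set_option linter.style.haveILetI false

namespace CfsgLib.SolvClass

universe u v w

variable {A : Type v} [CommGroup A] [Finite A] {k : Type w} [Field k] (ω : Pairing A k)
  {Y : Type u} [Group Y] [Finite Y] (ρ : Y →* MulAut A)

theorem Pairing.card_perp_mul (T : Subgroup A) : Nat.card (ω.perp T) * Nat.card T = Nat.card A := by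
  classical
  refine le_antisymm ?_ ?_
  · -- `T` embeds in the characters of `A ⧸ perp T`
    let φ : T → (A ⧸ ω.perp T →* kˣ) := fun t => QuotientGroup.lift _ (ω.left (t : A)) fun a ha => ha t t.2
    have hφ : Function.Injective φ := by
      intro t t' e
      refine Subtype.ext (inv_mul_eq_one.mp (ω.nondeg _ fun b => ω.eq_one_comm ?_))
      have : ω.toFun b t = ω.toFun b t' := DFunLike.congr_fun e (QuotientGroup.mk b)
      rw [ω.mul_right, show ω.toFun b (t : A)⁻¹ = (ω.toFun b t)⁻¹ from map_inv (ω.right b) _, this,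
        inv_mul_cancel]
    obtain ⟨hfin, hcard⟩ := Pairing.card_hom_units_le (k := k) (A ⧸ ω.perp T)
    rw [mul_comm, ← Subgroup.index_mul_card (ω.perp T)]
    exact Nat.mul_le_mul_right _ ((Nat.card_le_card_of_injective φ hφ).trans hcard)
  · -- `A ⧸ perp T` embeds in the characters of `T`
    let res : A →* (T →* kˣ) :=
      MonoidHom.mk' (fun a => (ω.right a).comp T.subtype) fun a b => MonoidHom.ext fun t => ω.mul_left a b t
    have hk : res.ker = ω.perp T := by
      ext a
      exact ⟨fun h t ht => DFunLike.congr_fun h ⟨t, ht⟩, fun h => MonoidHom.ext fun t => h t t.2⟩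
    obtain ⟨hfin, hcard⟩ := Pairing.card_hom_units_le (k := k) T
    rw [← Subgroup.card_mul_index (ω.perp T)]
    refine Nat.mul_le_mul_left _ ?_
    rw [← hk, Subgroup.index_ker]
    exact (Nat.card_le_card_of_injective _ Subtype.val_injective).trans hcard

theorem card_stab_orbit (H : Subgroup Y) (a : A) (O : Set A) (hO : ∀ y ∈ H, ρ y a ∈ O) :
    Nat.card H ≤ Nat.card O * Nat.card {y : H // ρ y a = a} := by
  classical
  have := Fintype.ofFinite H
  have := Fintype.ofFinite O
  rw [Nat.card_congr (Equiv.sigmaFiberEquiv fun y : H => (⟨ρ y a, hO y y.2⟩ : O)).symm, Nat.card_sigma,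
    Nat.card_eq_fintype_card (α := O), ← Finset.card_univ, ← smul_eq_mul]
  refine Finset.sum_le_card_nsmul _ _ _ fun o _ => ?_
  rcases isEmpty_or_nonempty {y : H // (⟨ρ y a, hO y y.2⟩ : O) = o} with h | h
  · simp
  obtain ⟨⟨y₀, hy₀⟩⟩ := h
  refine Nat.card_le_card_of_injective (fun y => (⟨y₀⁻¹ * y.1, ?_⟩ : {y : H // ρ y a = a})) ?_
  · have e : ρ y.1 a = ρ y₀ a := congrArg Subtype.val (y.2.trans hy₀.symm)
    rw [Subgroup.coe_mul, map_mul, MulAut.mul_apply, e, Subgroup.coe_inv, map_inv]
    exact (ρ y₀).symm_apply_apply _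
  · intro x y e
    exact Subtype.ext (mul_left_cancel (congrArg Subtype.val e))

/-- Automorphisms of an elementary abelian group preserving a pairing. -/
theorem card_le_isometries {p d : ℕ} (hp : p.Prime) (hd : 1 ≤ d) (hA : Nat.card A = p ^ d)
    (hexp : ∀ a : A, a ^ p = 1) (hinj : Function.Injective ρ)
    (hω : ∀ y a b, ω.toFun (ρ y a) (ρ y b) = ω.toFun a b) :
    Nat.card Y ≤ (p ^ d - 1) * p ^ d.choose 2 := by
  classical
  haveI := Fact.mk hp
  -- pointwise stabilisers
  let Fx : Subgroup A → Subgroup Y := fun T =>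
    { carrier := {y | ∀ t ∈ T, ρ y t = t}
      mul_mem' := fun {x y} hx hy t ht => by rw [map_mul, MulAut.mul_apply, hy t ht, hx t ht]
      one_mem' := fun t _ => by rw [map_one]; rfl
      inv_mem' := fun {x} hx t ht => by
        conv_lhs => rw [← hx t ht]
        rw [map_inv]; exact (ρ x).symm_apply_apply t }
  have hfix : ∀ (T : Subgroup A) (a : A) (H : Subgroup Y), H ≤ Fx T →
      Nat.card {y : H // ρ y a = a} ≤ Nat.card (Fx (T ⊔ Subgroup.zpowers a)) := by
    intro T a H hH
    refine Nat.card_le_card_of_injective (fun y => (⟨(y.1 : Y), ?_⟩ : Fx (T ⊔ Subgroup.zpowers a)))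
      fun x y e => Subtype.ext (Subtype.ext (congrArg Subtype.val e :))
    intro t ht
    obtain ⟨s, hs, z, hz, rfl⟩ := Subgroup.mem_sup.mp ht
    obtain ⟨i, rfl⟩ := hz
    rw [map_mul, map_zpow, hH y.1.2 s hs, y.2]
  have hgrow : ∀ (T : Subgroup A) (a : A), a ∉ T → p * Nat.card T ≤ Nat.card ↥(T ⊔ Subgroup.zpowers a) := by
    intro T a ha
    obtain ⟨c, hc⟩ := Subgroup.card_dvd_of_le (le_sup_left : T ≤ T ⊔ Subgroup.zpowers a)
    have hdvd := Subgroup.card_subgroup_dvd_card (T ⊔ Subgroup.zpowers a)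
    rw [hc, hA] at hdvd
    obtain ⟨i, -, hi⟩ := (Nat.dvd_prime_pow hp).mp ((Dvd.intro_left _ rfl).trans hdvd : c ∣ p ^ d)
    rw [hc, mul_comm]
    refine Nat.mul_le_mul_left _ ?_
    rcases Nat.eq_zero_or_pos i with rfl | hi0
    · exfalso
      refine ha ((Subgroup.eq_of_le_of_card_ge le_sup_left (le_of_eq (by rw [hc, hi, pow_zero, mul_one]))).symm ▸
        Subgroup.mem_sup_right (Subgroup.mem_zpowers a))
    · rw [hi]; exact Nat.le_self_pow hi0.ne' p
  have hstep : ∀ c : ℕ, ∀ T : Subgroup A, p ^ d ≤ p ^ c * Nat.card T →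
      Nat.card (Fx T) ≤ p ^ (c + 1).choose 2 := by
    intro c
    induction c with
    | zero =>
      intro T hT
      have htop : T = ⊤ := Subgroup.eq_top_of_le_card _ (by simpa [hA] using hT)
      have : Fx T = ⊥ := (Subgroup.eq_bot_iff_forall _).mpr fun y hy => hinj (MulEquiv.ext fun a => by
        rw [map_one]; exact hy a (htop ▸ Subgroup.mem_top a))
      rw [this, Subgroup.card_bot]
      exact Nat.one_le_pow _ _ hp.pos
    | succ c ih =>
      intro T hT
      by_cases htop : T = ⊤
      · refine (ih T ?_).trans (Nat.pow_le_pow_right hp.pos (Nat.choose_le_choose 2 (Nat.le_succ _)))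
        rw [htop, Subgroup.card_top, hA]
        exact Nat.le_mul_of_pos_left _ (pow_pos hp.pos _)
      obtain ⟨a, ha⟩ := SetLike.exists_not_mem_of_ne_top T htop
      let O : Set A := (fun b => a * b) '' (ω.perp T : Set A)
      have hO : Nat.card O ≤ p ^ (c + 1) := by
        refine (Nat.card_image_le (Set.toFinite _)).trans ?_
        refine Nat.le_of_mul_le_mul_right ?_ (Nat.card_pos (α := T))
        exact (ω.card_perp_mul T).le.trans (hA ▸ hT)
      have horb : ∀ y ∈ Fx T, ρ y a ∈ O := fun y hy => ⟨a⁻¹ * ρ y a, fun t ht => by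
        rw [ω.mul_left, show ω.toFun a⁻¹ t = (ω.toFun a t)⁻¹ from map_inv (ω.left t) a]
        conv_lhs => arg 2; rw [← hy t ht]
        rw [hω, inv_mul_cancel], mul_inv_cancel_left _ _⟩
      refine (card_stab_orbit ρ (Fx T) a O horb).trans ?_
      rw [Nat.choose_succ_succ, Nat.choose_one_right, pow_add]
      refine Nat.mul_le_mul hO ((hfix T a (Fx T) le_rfl).trans (ih _ ?_))
      calc p ^ d ≤ p ^ (c + 1) * Nat.card T := hT
        _ = p ^ c * (p * Nat.card T) := by rw [pow_succ, mul_assoc]
        _ ≤ _ := Nat.mul_le_mul_left _ (hgrow T a ha)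
  obtain ⟨a, ha⟩ : ∃ a : A, a ≠ 1 := by
    by_contra h
    push Not at h
    have : Subsingleton A := ⟨fun x y => (h x).trans (h y).symm⟩
    rw [Nat.card_unique] at hA
    exact absurd hA.symm (Nat.one_lt_pow (by omega) hp.one_lt).ne'
  have hO : Nat.card {b : A | b ≠ 1} = p ^ d - 1 := by
    have := Fintype.ofFinite A
    rw [Set.coe_setOf, Nat.card_eq_fintype_card]
    simp only [ne_eq]
    rw [Fintype.card_subtype_compl, Fintype.card_subtype_eq, ← Nat.card_eq_fintype_card, hA]
  have h1 := card_stab_orbit ρ (⊤ : Subgroup Y) a {b | b ≠ 1} fun y _ => fun e =>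
    ha ((ρ y).injective (e.trans (map_one _).symm))
  rw [Subgroup.card_top, hO] at h1
  refine h1.trans (Nat.mul_le_mul_left _ ?_)
  refine (hfix ⊥ a ⊤ (fun y _ t ht => by rw [Subgroup.mem_bot.mp ht]; exact map_one _)).trans ?_
  have h2 := hstep (d - 1) (⊥ ⊔ Subgroup.zpowers a) (by
    have := hgrow ⊥ a (fun h => ha (Subgroup.mem_bot.mp h))
    rw [Subgroup.card_bot, mul_one] at this
    calc p ^ d = p ^ (d - 1) * p := by rw [← pow_succ]; congr 1; omega
      _ ≤ _ := Nat.mul_le_mul_left _ this)
  rwa [show d - 1 + 1 = d by omega] at h2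

omit [Finite Y] in
theorem power_map {p : ℕ} (hp : p.Prime) (hexp : ∀ a : A, a ^ p = 1) {a b : A} (hab : ω.toFun a b ≠ 1)
    (hω : ∀ y a b, ω.toFun (ρ y a) (ρ y b) = ω.toFun a b) (y : Y) {i : ℕ} (ha : ρ y a = a ^ i)
    (hb : ρ y b = b ^ i) : (i : ZMod p) = 1 ∨ (i : ZMod p) = -1 := by
  haveI := Fact.mk hp
  have hz : orderOf (ω.toFun a b) = p := orderOf_eq_prime (by rw [← ω.pow_left, hexp, ω.one_left]) hab
  have e := hω y a b
  rw [ha, hb, ω.pow_left, ω.pow_right, ← pow_mul] at e
  conv_rhs at e => rw [← pow_one (ω.toFun a b)]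
  rw [pow_inj_mod, hz] at e
  have e2 : ((i * i : ℕ) : ZMod p) = ((1 : ℕ) : ZMod p) := (ZMod.natCast_eq_natCast_iff' _ _ _).mpr e
  rw [Nat.cast_mul, Nat.cast_one] at e2
  exact mul_self_eq_one_iff.mp e2

/-- The case of a plane. -/
theorem classBound_plane {p : ℕ} (hp : p.Prime) (hA : Nat.card A = p ^ 2)
    (hexp : ∀ a : A, a ^ p = 1) (hinj : Function.Injective ρ)
    (hω : ∀ y a b, ω.toFun (ρ y a) (ρ y b) = ω.toFun a b) :
    ClassBound Y ((if p = 2 then 1 else 2) + (p ^ 2 - 1) - 1) := by
  classical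
  haveI := Fact.mk hp
  let S : Set Y := {y | (∀ a : A, ρ y a = a) ∨ (∀ a : A, ρ y a = a⁻¹)}
  have hS1 : (1 : Y) ∈ S := Or.inl fun a => by rw [map_one]; rfl
  have hS : Nat.card S ≤ if p = 2 then 1 else 2 := by
    let t : S → Bool := fun y => decide (∀ a : A, ρ (y : Y) a = a)
    have key : ∀ y z : S, ((∀ a : A, ρ (y : Y) a = a) ↔ ∀ a : A, ρ (z : Y) a = a) → y = z := by
      intro y z h
      refine Subtype.ext (hinj (MulEquiv.ext fun a => ?_))
      rcases y.2 with hy | hy
      · rw [hy, (h.mp hy) a]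
      · rcases z.2 with hz | hz
        · rw [(h.mpr hz) a, hz]
        · rw [hy, hz]
    split_ifs with h2
    · have hid : ∀ y : S, ∀ a : A, ρ (y : Y) a = a := fun y a => by
        have hinv : a⁻¹ = a := inv_eq_of_mul_eq_one_left (by rw [← sq]; exact h2 ▸ hexp a)
        rcases y.2 with h | h
        · exact h a
        · rw [h a, hinv]
      exact Finite.card_le_one_iff_subsingleton.mpr ⟨fun y z => key y z (iff_of_true (hid y) (hid z))⟩
    · refine (Nat.card_le_card_of_injective t fun y z e => key y z ?_).trans (by simp)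
      simpa [t] using e
  have hcent : ∀ y, y ∉ S → Nat.card {z : Y // Commute y z} ≤ p ^ 2 - 1 := by
    intro y hy
    -- a vector which is not an eigenvector
    obtain ⟨a, ha, hgen⟩ : ∃ a : A, a ≠ 1 ∧ Subgroup.zpowers a ⊔ Subgroup.zpowers (ρ y a) = ⊤ := by
      by_contra hcon
      push Not at hcon
      have heig : ∀ a : A, ∃ i : ℕ, ρ y a = a ^ i := by
        intro a
        by_cases ha : a = 1
        · exact ⟨1, by rw [ha, map_one, one_pow]⟩
        have hne := hcon a ha
        have hmem : ρ y a ∈ Subgroup.zpowers a := by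
          by_contra hmem
          refine hne (Subgroup.eq_top_of_le_card _ ?_)
          have h1 : Nat.card (Subgroup.zpowers a) = p := by
            rw [Nat.card_zpowers, orderOf_eq_prime (hexp a) ha]
          have hlt : Subgroup.zpowers a < Subgroup.zpowers a ⊔ Subgroup.zpowers (ρ y a) :=
            lt_of_le_of_ne le_sup_left fun e => hmem (e ▸ Subgroup.mem_sup_right (Subgroup.mem_zpowers _))
          obtain ⟨c, hc⟩ := Subgroup.card_dvd_of_le hlt.le
          have hd := Subgroup.card_subgroup_dvd_card (Subgroup.zpowers a ⊔ Subgroup.zpowers (ρ y a))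
          rw [hc, h1, hA, sq] at hd
          have hcp : c ∣ p := Nat.dvd_of_mul_dvd_mul_left hp.pos hd
          rcases (Nat.dvd_prime hp).mp hcp with rfl | rfl
          · exact absurd (Subgroup.eq_of_le_of_card_ge hlt.le (le_of_eq (by rw [hc, mul_one]))) hlt.ne
          · rw [hA, hc, h1, sq]
        obtain ⟨i, hi⟩ := (mem_powers_iff_mem_zpowers).mpr hmem
        exact ⟨i, hi.symm⟩
      obtain ⟨a, ha⟩ : ∃ a : A, a ≠ 1 := by
        by_contra h
        push Not at h
        have : Subsingleton A := ⟨fun x y => (h x).trans (h y).symm⟩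
        rw [Nat.card_unique] at hA
        exact absurd hA.symm (Nat.one_lt_pow (by omega) hp.one_lt).ne'
      obtain ⟨b, hab⟩ : ∃ b, ω.toFun a b ≠ 1 := by
        by_contra h
        push Not at h
        exact ha (ω.nondeg a h)
      obtain ⟨i, hi⟩ := heig a
      have hall : ∀ c : A, ρ y c = c ^ i := by
        -- on `b`, compare with `a * b`
        obtain ⟨j, hj⟩ := heig b
        obtain ⟨l, hl⟩ := heig (a * b)
        have hz : orderOf (ω.toFun a b) = p := orderOf_eq_prime (by rw [← ω.pow_left, hexp, ω.one_left]) hab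
        rw [map_mul, hi, hj, mul_pow] at hl
        have e1 := congrArg (ω.toFun · b) hl
        have e2 := congrArg (ω.toFun a ·) hl
        simp only [ω.mul_left, ω.mul_right, ω.pow_left, ω.pow_right, ω.self, one_pow, mul_one, one_mul] at e1 e2
        rw [pow_inj_mod, hz] at e1 e2
        have hji : b ^ j = b ^ i := by
          rw [pow_eq_pow_mod j (hexp b), e2, ← e1, ← pow_eq_pow_mod i (hexp b)]
        have htop : Subgroup.zpowers a ⊔ Subgroup.zpowers b = ⊤ := by
          refine Subgroup.eq_top_of_le_card _ ?_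
          have hnotmem : b ∉ Subgroup.zpowers a := by
            rintro ⟨z, hz'⟩
            have hzz : a ^ z = b := hz'
            refine hab ?_
            rw [← hzz, show ω.toFun a (a ^ z) = ω.toFun a a ^ z from map_zpow (ω.right a) a z, ω.self, one_zpow]
          have h1 : Nat.card (Subgroup.zpowers a) = p := by
            rw [Nat.card_zpowers, orderOf_eq_prime (hexp a) ha]
          have hlt : Subgroup.zpowers a < Subgroup.zpowers a ⊔ Subgroup.zpowers b :=
            lt_of_le_of_ne le_sup_left fun e => hnotmem (e ▸ Subgroup.mem_sup_right (Subgroup.mem_zpowers _))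
          obtain ⟨c, hc⟩ := Subgroup.card_dvd_of_le hlt.le
          have hd := Subgroup.card_subgroup_dvd_card (Subgroup.zpowers a ⊔ Subgroup.zpowers b)
          rw [hc, h1, hA, sq] at hd
          rcases (Nat.dvd_prime hp).mp (Nat.dvd_of_mul_dvd_mul_left hp.pos hd) with rfl | rfl
          · exact absurd (Subgroup.eq_of_le_of_card_ge hlt.le (le_of_eq (by rw [hc, mul_one]))) hlt.ne
          · rw [hA, hc, h1, sq]
        intro c
        have hc : c ∈ Subgroup.zpowers a ⊔ Subgroup.zpowers b := htop ▸ Subgroup.mem_top c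
        obtain ⟨s, ⟨z, hz⟩, t, ⟨z', hz'⟩, rfl⟩ := Subgroup.mem_sup.mp hc
        subst hz hz'
        rw [map_mul, map_zpow, map_zpow, hi, hj, hji, mul_pow, ← zpow_natCast, ← zpow_natCast, ← zpow_mul,
          ← zpow_mul, mul_comm _ z, mul_comm _ z', zpow_mul, zpow_mul, zpow_natCast, zpow_natCast]
      rcases power_map ω ρ hp hexp hab hω y hi (hall b) with h | h
      · refine hy (Or.inl fun c => ?_)
        rw [hall c, ← pow_one c]
        have h' : (i : ZMod p) = ((1 : ℕ) : ZMod p) := by rw [h, Nat.cast_one]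
        rw [← pow_mul, one_mul, pow_eq_pow_mod i (hexp c), (ZMod.natCast_eq_natCast_iff' _ _ _).mp h',
          ← pow_eq_pow_mod 1 (hexp c)]
      · refine hy (Or.inr fun c => ?_)
        rw [hall c]
        refine eq_inv_of_mul_eq_one_left ?_
        have hdiv : p ∣ i + 1 := by
          exact (ZMod.natCast_eq_zero_iff _ _).mp (by rw [Nat.cast_add, Nat.cast_one, h, neg_add_cancel])
        obtain ⟨m, hm⟩ := hdiv
        rw [← pow_succ, hm, pow_mul, hexp, one_pow]
    refine (Nat.card_le_card_of_injective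
      (fun z : {z : Y // Commute y z} => (⟨ρ z a, fun e => ha ((ρ z).injective (e.trans (map_one _).symm))⟩ :
        {b : A // b ≠ 1})) ?_).trans (le_of_eq ?_)
    · intro z z' e
      have e1 : ρ z a = ρ z' a := congrArg Subtype.val e
      have e2 : ρ z (ρ y a) = ρ z' (ρ y a) := by
        rw [← MulAut.mul_apply, ← map_mul, ← MulAut.mul_apply, ← map_mul, ← z.2.eq, ← z'.2.eq, map_mul, map_mul,
          MulAut.mul_apply, MulAut.mul_apply, e1]
      refine Subtype.ext (hinj (MulEquiv.ext fun c => ?_))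
      have hc : c ∈ Subgroup.zpowers a ⊔ Subgroup.zpowers (ρ y a) := hgen ▸ Subgroup.mem_top c
      obtain ⟨s, ⟨i, hi⟩, t, ⟨j, hj⟩, rfl⟩ := Subgroup.mem_sup.mp hc
      subst hi hj
      simp only [map_mul, map_zpow, e1, e2]
    · have := Fintype.ofFinite A
      rw [Nat.card_eq_fintype_card]
      simp only [ne_eq]
      rw [Fintype.card_subtype_compl, Fintype.card_subtype_eq, ← Nat.card_eq_fintype_card, hA]
  have hc1 : 1 ≤ p ^ 2 - 1 := by
    have := Nat.pow_le_pow_left hp.two_le 2
    omega
  exact (classBound_of_centralizer S hS1 hc1 hcent).mono (by omega)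

end CfsgLib.SolvClass
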