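import Cfsg.Agent.Lib.SolvClass.Structure
import Cfsg.Agent.Lib.SolvClass.Decomp
import Cfsg.Agent.Lib.SolvClass.Count

/-!
Class bounds for irreducible solvable linear groups over prime fields, by the blocks, the field and the scalar case.
-/

set_option autoImplicit false
set_option linter.unusedSectionVars false
set_option linter.style.haveILetI false

namespace CfsgLib.SolvClass

universe u v w

open Cfsg

/-- A class bound for all irreducible solvable groups of degree `d` over the field with `p` elements. -/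
def FBound.{u'} (p : ℕ) [Fact p.Prime] (d M : ℕ) : Prop :=
  ∀ (X : Type u') [Group X] [Finite X] [Group.IsSolvable X] (V : Type u') [AddCommGroup V] [Module (ZMod p) V]
    [Module.Finite (ZMod p) V] (ρ : X →* (V ≃ₗ[ZMod p] V)), Function.Injective ρ →
    Module.finrank (ZMod p) V = d → (∀ U : Submodule (ZMod p) V, (∀ g, ∀ x ∈ U, ρ g x ∈ U) → U = ⊥ ∨ U = ⊤) →
    ClassBound X M

/-- A bound for the product of `|A|` and the classes of a group of isometries of `A`. -/
def PairBound.{u'} (N f B : ℕ) : Prop :=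
  ∀ (A : Type u') [CommGroup A] [Finite A] (k : Type u') [Field k] (ω : Pairing A k) (Q : Type u') [Group Q]
    [Finite Q] (σ : Q →* MulAut A), Function.Injective σ → (∀ q a b, ω.toFun (σ q a) (σ q b) = ω.toFun a b) →
    Nat.card A ≤ f * f → (∀ a : A, a ^ N = 1) → ∃ M, ClassBound Q M ∧ Nat.card A * M ≤ B

theorem Pairing.exp_dvd {A : Type v} [CommGroup A] {k : Type w} [Field k] (ω : Pairing A k) {N : ℕ}
    (hN : ∀ z : kˣ, z ^ N = 1) (a : A) : a ^ N = 1 :=
  ω.nondeg _ fun b => by rw [ω.pow_left, hN]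

theorem classBound_trivial_target {A : Type v} [Group A] {Q : Type u} [Group Q] [Finite Q] (σ : Q →* MulAut A)
    (hσ : Function.Injective σ) (hA : ∀ a : A, a = 1) : ClassBound Q 1 := by
  have : Subsingleton Q := ⟨fun x y => hσ (MulEquiv.ext fun a => (hA _).trans (hA _).symm)⟩
  exact classBound_of_card (by rw [Nat.card_unique])

/-! ### Small pairings -/

section small

variable {A : Type v} [CommGroup A] [Finite A] {k : Type w} [Field k] (ω : Pairing A k)
include ω

theorem sq_eq_one_of_card_le (hA : Nat.card A ≤ 4) (a : A) : a ^ 2 = 1 := by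
  by_contra h
  have h1 : orderOf a ∣ Nat.card A := orderOf_dvd_natCard a
  have h2 : ¬ orderOf a ∣ 2 := fun hd => h (orderOf_dvd_iff_pow_eq_one.mp hd)
  have htop : Subgroup.zpowers a = ⊤ := by
    refine Subgroup.eq_top_of_le_card _ ?_
    rw [Nat.card_zpowers]
    obtain ⟨c, hc⟩ := h1
    have hpos := orderOf_pos a
    have hA0 : 0 < Nat.card A := Nat.card_pos
    have : 3 ≤ orderOf a := by
      by_contra hlt
      exact h2 (by interval_cases orderOf a <;> norm_num)
    rcases c with _ | _ | c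
    · simp at hc; omega
    · rw [hc, zero_add, mul_one]
    · nlinarith
  refine h (ω.nondeg _ fun b => ?_)
  have hb : b ∈ Subgroup.zpowers a := htop ▸ Subgroup.mem_top b
  obtain ⟨z, rfl⟩ := hb
  rw [ω.pow_left, show ω.toFun a (a ^ z) = ω.toFun a a ^ z from map_zpow (ω.right a) a z, ω.self, one_zpow,
    one_pow]

variable {Q : Type u} [Group Q] [Finite Q] (σ : Q →* MulAut A)

theorem small_two (hσ : Function.Injective σ) (hω : ∀ q a b, ω.toFun (σ q a) (σ q b) = ω.toFun a b)
    (hA : Nat.card A ≤ 4) : ClassBound Q 3 := by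
  have hexp := sq_eq_one_of_card_le ω hA
  obtain ⟨m, hm⟩ := Pairing.card_sq Nat.prime_two _ ω rfl hexp
  have hm1 : 2 * m ≤ 2 := (Nat.pow_le_pow_iff_right one_lt_two).mp (hm ▸ hA)
  obtain rfl | rfl : m = 0 ∨ m = 1 := by omega
  · have : Subsingleton A := Finite.card_le_one_iff_subsingleton.mp (by rw [hm]; norm_num)
    exact (classBound_trivial_target σ hσ fun a => Subsingleton.elim _ _).mono (by norm_num)
  · exact (classBound_plane ω σ Nat.prime_two hm hexp hσ hω).mono (by norm_num)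

theorem small_three (hσ : Function.Injective σ) (hω : ∀ q a b, ω.toFun (σ q a) (σ q b) = ω.toFun a b)
    (hexp : ∀ a : A, a ^ 3 = 1) (hA : Nat.card A ≤ 25) : Nat.card A ≤ 9 ∧ ClassBound Q 9 := by
  obtain ⟨m, hm⟩ := Pairing.card_sq Nat.prime_three _ ω rfl hexp
  have hm1 : 2 * m < 3 := (Nat.pow_lt_pow_iff_right (by norm_num : 1 < 3)).mp
    ((hm ▸ hA).trans_lt (by norm_num : (25 : ℕ) < 3 ^ 3))
  obtain rfl | rfl : m = 0 ∨ m = 1 := by omega
  · have : Subsingleton A := Finite.card_le_one_iff_subsingleton.mp (by rw [hm]; norm_num)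
    exact ⟨by rw [hm]; norm_num, (classBound_trivial_target σ hσ fun a => Subsingleton.elim _ _).mono (by norm_num)⟩
  · exact ⟨by rw [hm]; norm_num, (classBound_plane ω σ Nat.prime_three hm hexp hσ hω).mono (by norm_num)⟩

end small

theorem pairBound_one (N : ℕ) : PairBound.{u} N 1 1 := by
  intro A _ _ k _ ω Q _ _ σ hσ hω hA hN
  have : Subsingleton A := Finite.card_le_one_iff_subsingleton.mp (by simpa using hA)
  exact ⟨1, classBound_trivial_target σ hσ fun a => Subsingleton.elim _ _, by simpa using hA⟩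

theorem pairBound_two (N : ℕ) : PairBound.{u} N 2 12 := by
  intro A _ _ k _ ω Q _ _ σ hσ hω hA hN
  exact ⟨3, small_two ω σ hσ hω hA, Nat.mul_le_mul_right 3 hA⟩

theorem pairBound_two_odd {N : ℕ} (hN : Odd N) : PairBound.{u} N 2 1 := by
  intro A _ _ k _ ω Q _ _ σ hσ hω hA hexp
  have h1 : ∀ a : A, a = 1 := fun a => by
    obtain ⟨j, rfl⟩ := hN
    have := hexp a
    rwa [pow_succ, pow_mul, sq_eq_one_of_card_le ω hA, one_pow, one_mul] at this
  have : Subsingleton A := ⟨fun a b => (h1 a).trans (h1 b).symm⟩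
  exact ⟨1, classBound_trivial_target σ hσ h1, by rw [Nat.card_unique]⟩

theorem pairBound_three {f : ℕ} (hf : f * f ≤ 25) : PairBound.{u} 3 f 81 := by
  intro A _ _ k _ ω Q _ _ σ hσ hω hA hexp
  obtain ⟨h1, h2⟩ := small_three ω σ hσ hω hexp (hA.trans hf)
  exact ⟨9, h2, Nat.mul_le_mul_right 9 h1⟩

/-! ### The three cases -/

theorem card_scal_le {k : Type w} [Field k] [Finite k] {V : Type v} [AddCommGroup V] [Module k V] [Nontrivial V]
    {C : Type u} [Group C] (ρ : C →* (V ≃ₗ[k] V)) (hρ : Function.Injective ρ) :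
    Nat.card (scal ρ) ≤ Nat.card k - 1 := by
  have hv : ∀ c : scal ρ, ∃ a : kˣ, ∀ x, ρ c x = (a : k) • x := fun c => c.2
  choose val hval using hv
  rw [← Nat.card_units]
  refine Nat.card_le_card_of_injective val fun c d e => Subtype.ext (hρ (LinearEquiv.ext fun x => ?_))
  rw [hval, hval, e]

theorem units_pow_card_sub_one {k : Type w} [Field k] [Finite k] (z : kˣ) : z ^ (Nat.card k - 1) = 1 := by
  rw [← Nat.card_units]
  exact pow_card_eq_one'

/-- The product of the pairing data. -/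
theorem classBound_of_pairing {C : Type u} [Group C] [Finite C] (F : Subgroup C) [F.Normal] {A : Type v}
    [CommGroup A] (σ : C →* MulAut A) (hker : σ.ker = F) {s M : ℕ} (hF : Nat.card F ≤ s)
    (hQ : ClassBound (C ⧸ σ.ker) M) : ClassBound C (s * M) :=
  classBound_of_normal F (classBound_of_card hF)
    (hQ.of_injective (QuotientGroup.quotientMulEquivOfEq hker.symm).toMonoidHom (MulEquiv.injective _))

section cases

variable {p : ℕ} [Fact p.Prime] {X : Type u} [Group X] [Finite X] [Group.IsSolvable X] {V : Type u}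
  [AddCommGroup V] [Module (ZMod p) V] [Module.Finite (ZMod p) V] [Nontrivial V] (ρ : X →* (V ≃ₗ[ZMod p] V))

/-- Abelian normal subgroups have order prime to `p`. -/
theorem coprime_of_irreducible (hρ : Function.Injective ρ)
    (hirr : ∀ U : Submodule (ZMod p) V, (∀ g, ∀ x ∈ U, ρ g x ∈ U) → U = ⊥ ∨ U = ⊤) (A : Subgroup X) [A.Normal]
    (hA : ∀ a ∈ A, ∀ b ∈ A, a * b = b * a) : (Nat.card A : ZMod p) ≠ 0 := by
  intro h0
  have hp : p.Prime := Fact.out
  obtain ⟨a, ha⟩ := exists_prime_orderOf_dvd_card' p ((ZMod.natCast_eq_zero_iff _ _).mp h0)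
  let P : Subgroup X :=
    { carrier := {g | g ∈ A ∧ g ^ p = 1}
      mul_mem' := fun {g h} hg hh => ⟨mul_mem hg.1 hh.1, by
        rw [Commute.mul_pow (hA g hg.1 h hh.1), hg.2, hh.2, one_mul]⟩
      one_mem' := ⟨one_mem A, one_pow p⟩
      inv_mem' := fun {g} hg => ⟨inv_mem hg.1, by rw [inv_pow, hg.2, inv_one]⟩ }
  have hPn : ∀ g ∈ P, ∀ x : X, x * g * x⁻¹ ∈ P := fun g hg x =>
    ⟨‹A.Normal›.conj_mem g hg.1 x, by rw [conj_pow, hg.2, mul_one, mul_inv_cancel]⟩
  have hPp : IsPGroup p P := fun g => ⟨1, Subtype.ext (by rw [pow_one]; exact g.2.2)⟩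
  letI : MulAction P V := MulAction.compHom V (ρ.comp P.subtype)
  have hsmul : ∀ (g : P) (x : V), g • x = ρ g x := fun _ _ => rfl
  have hdvd : p ∣ Nat.card V := by
    rw [Module.natCard_eq_pow_finrank (K := ZMod p), Nat.card_zmod]
    exact dvd_pow_self p Module.finrank_pos.ne'
  haveI : Finite V := Module.finite_of_finite (ZMod p)
  obtain ⟨w, hw, hw0⟩ := hPp.exists_fixed_point_of_prime_dvd_card_of_fixed_point V hdvd
    (show (0 : V) ∈ MulAction.fixedPoints P V from fun g => by rw [hsmul, map_zero])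
  let U : Submodule (ZMod p) V :=
    { carrier := {x | ∀ g : P, ρ g x = x}
      add_mem' := fun {x y} hx hy g => by rw [map_add, hx g, hy g]
      zero_mem' := fun g => map_zero _
      smul_mem' := fun c x hx g => by rw [map_smul, hx g] }
  rcases hirr U (fun x y hy g => by
      have h1 := hy ⟨x⁻¹ * g * x, by simpa using hPn g g.2 x⁻¹⟩
      rw [← LinearEquiv.mul_apply, ← map_mul]
      conv_rhs => rw [← h1, ← LinearEquiv.mul_apply, ← map_mul]
      congr 2; group) with h | h
  · exact hw0 ((Submodule.eq_bot_iff U).mp h w fun g => by rw [← hsmul]; exact hw g).symm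
  · have h1 : (a : X) = 1 := hρ (LinearEquiv.ext fun x => by
      rw [map_one]
      exact (h ▸ Submodule.mem_top : x ∈ U) ⟨(a : X), a.2, by
        rw [← Subgroup.coe_pow, ← ha, pow_orderOf_eq_one, Subgroup.coe_one]⟩)
    rw [← Subgroup.coe_one A, SetLike.coe_eq_coe] at h1
    rw [h1, orderOf_one] at ha
    exact hp.one_lt.ne ha

/-- Imprimitive groups. -/
theorem blocks_case (hρ : Function.Injective ρ)
    (hirr : ∀ U : Submodule (ZMod p) V, (∀ g, ∀ x ∈ U, ρ g x ∈ U) → U = ⊥ ∨ U = ⊤) (D : Blocks ρ)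
    (h2 : 2 ≤ D.E.card) (htr : ∀ e ∈ D.E, ∀ f ∈ D.E, ∃ g, cjEnd ρ g e = f) :
    ∃ t m, 2 ≤ t ∧ t * m = Module.finrank (ZMod p) V ∧
      ∀ M, FBound.{u} p m M → ClassBound X (M ^ t * 3 ^ (t - 1)) := by
  classical
  obtain ⟨e₀, he₀⟩ : D.E.Nonempty := Finset.card_pos.mp (by omega)
  haveI : Nonempty D.E := ⟨⟨e₀, he₀⟩⟩
  have hm : ∀ e : D.E, Module.finrank (ZMod p) (LinearMap.range (e : Module.End (ZMod p) V)) =
      Module.finrank (ZMod p) (LinearMap.range e₀) := fun e => by
    obtain ⟨g, hg⟩ := htr e e.2 e₀ he₀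
    exact D.finrank_eq_of_conj (f := ⟨e₀, he₀⟩) hg
  refine ⟨D.E.card, Module.finrank (ZMod p) (LinearMap.range e₀), h2, ?_, fun M hM => ?_⟩
  · rw [← D.sum_finrank, Finset.sum_congr rfl fun e _ => hm e, Finset.sum_const, Finset.card_univ,
      Fintype.card_coe, smul_eq_mul]
  · have he : ∀ e : D.E, ClassBound (D.stab e ⧸ (D.res e).ker) M := fun e => by
      refine hM _ _ (QuotientGroup.kerLift (D.res e)) (QuotientGroup.kerLift_injective _) (hm e) fun U hU => ?_
      exact D.stab_irreducible hirr e U fun g x hx => hU (g : D.stab e ⧸ (D.res e).ker) x hx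
    have hB : ClassBound D.permHom.ker (∏ _e : D.E, M) :=
      classBound_pi he (fun e => (QuotientGroup.mk' _).comp (Subgroup.inclusion (D.ker_le_stab e)))
        fun b hb => D.eq_one_of_res hρ b fun e => (QuotientGroup.eq_one_iff _).mp (hb e)
    rw [Finset.prod_const, Finset.card_univ, Fintype.card_coe] at hB
    have hperm := classBound_perm D.permHom
    rw [Nat.card_eq_fintype_card, Fintype.card_coe] at hperm
    exact classBound_of_normal _ hB
      (hperm.of_injective (QuotientGroup.quotientKerEquivRange D.permHom).toMonoidHom (MulEquiv.injective _))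

/-- All abelian normal subgroups are scalar. -/
theorem scalar_case (hρ : Function.Injective ρ)
    (hns : ∀ B : Subgroup X, B.Normal → (∀ a ∈ B, ∀ b ∈ B, a * b = b * a) → B ≤ scal ρ) {M : ℕ} (hM : 1 ≤ M)
    (h : p = 2 ∨ IrreducibleBound.{u, u, 0} (Module.finrank (ZMod p) V) ∧ (p - 1) *
      (Module.finrank (ZMod p) V * Module.finrank (ZMod p) V) * 3 ^ (Module.finrank (ZMod p) V - 1) ≤ M) :
    ClassBound X M := by
  obtain ⟨A, instA, hfin, ω, σ, hker, hω, hsize, hF, hiso⟩ := exists_pairing ρ hρ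
    fun B hB hab => hns B (by haveI := hB; infer_instance) hab
  have hs := card_scal_le ρ hρ
  rw [Nat.card_zmod] at hs
  rcases h with h2 | ⟨hN, hle⟩
  · have hA : ∀ a : A, a = 1 := fun a => by
      have := ω.exp_dvd (units_pow_card_sub_one (k := ZMod p)) a
      rwa [Nat.card_zmod, show p - 1 = 1 by omega, pow_one] at this
    have : Subsingleton A := ⟨fun a b => (hA a).trans (hA b).symm⟩
    refine (classBound_of_pairing (fittingSubgroup X) σ hker (s := 1) ?_
      (classBound_trivial_target (QuotientGroup.kerLift σ) (QuotientGroup.kerLift_injective σ) hA)).mono (by omega)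
    rw [hF, Nat.card_unique (α := A), mul_one]
    omega
  · obtain ⟨m, hm, hb⟩ := pairing_bound hN (Nat.card A) A ω (X ⧸ σ.ker) (QuotientGroup.kerLift σ) rfl hsize
      (QuotientGroup.kerLift_injective σ) (fun q => QuotientGroup.induction_on q hω)
      (fun U hU => hiso hns U fun c u hu => hU (c : X ⧸ σ.ker) u hu)
    refine (classBound_of_pairing (fittingSubgroup X) σ hker le_rfl hb).mono (le_trans ?_ hle)
    rw [hF]
    refine Nat.mul_le_mul (Nat.mul_le_mul hs hsize) (Nat.pow_le_pow_right (by norm_num) (Nat.sub_le_sub_right ?_ 1))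
    exact Nat.mul_self_le_mul_self_iff.mp (hm ▸ hsize)

/-- A field in the centre of an abelian normal subgroup's algebra. -/
theorem field_case (hρ : Function.Injective ρ) (A : Subgroup X) [A.Normal]
    (hA : ∀ a ∈ A, ∀ b ∈ A, a * b = b * a) (hAs : ¬ A ≤ scal ρ)
    (hmax : ∀ B : Subgroup X, A ≤ B → B.Normal → (∀ a ∈ B, ∀ b ∈ B, a * b = b * a) → B = A)
    (hfield : ∀ x ∈ alg ρ A, x ≠ 0 → ∃ y ∈ alg ρ A, x * y = 1) :
    ∃ e f, 2 ≤ e ∧ e * f = Module.finrank (ZMod p) V ∧
      (∀ B, PairBound.{u} (p ^ e - 1) f B → ClassBound X (e * ((p ^ e - 1) * B))) ∧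
      (f = 1 → ∀ c₀, 1 ≤ c₀ → (∀ i < e, p ^ i - 1 ∣ p ^ e - 1 → p ^ i - 1 ≤ c₀) →
        ClassBound X ((p ^ e - 1) + e * c₀ - 1)) := by
  classical
  have hp : p.Prime := Fact.out
  let K := alg ρ A
  have hfK : IsField K :=
    { exists_pair_ne := ⟨0, 1, fun h => by
        obtain ⟨x, hx⟩ := exists_ne (0 : V)
        exact hx (LinearMap.congr_fun (congrArg Subtype.val h) x).symm⟩
      mul_comm := fun x y => Subtype.ext (alg_comm ρ hA x.2 y.2)
      mul_inv_cancel := fun {x} hx => by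
        obtain ⟨y, hy, hxy⟩ := hfield x x.2 fun h => hx (Subtype.ext h)
        exact ⟨⟨y, hy⟩, Subtype.ext hxy⟩ }
  letI : Field K := hfK.toField
  haveI : Finite V := Module.finite_of_finite (ZMod p)
  haveI : Finite (Module.End (ZMod p) V) := Finite.of_injective _ DFunLike.coe_injective
  haveI : IsScalarTower (ZMod p) K V := ⟨fun _ _ _ => rfl⟩
  haveI : Module.Finite K V := Module.Finite.of_restrictScalars_finite (ZMod p) K V
  have hef := Module.finrank_mul_finrank (ZMod p) K V
  set e := Module.finrank (ZMod p) K with he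
  set f := Module.finrank K V with hf
  have hcK : Nat.card K = p ^ e := by rw [Module.natCard_eq_pow_finrank (K := ZMod p), Nat.card_zmod]
  have hsmul : ∀ (z : K) (x : V), z • x = (z : Module.End (ZMod p) V) x := fun _ _ => rfl
  have he2 : 2 ≤ e := by
    by_contra hlt
    refine hAs fun a ha => ?_
    have he1 : e = 1 := by
      have : 0 < e := Module.finrank_pos
      omega
    have hbot : K = ⊥ := Subalgebra.eq_bot_of_finrank_one he1
    have hmem : (ρ a : V →ₗ[ZMod p] V) ∈ K := mem_alg ρ ha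
    rw [hbot] at hmem
    obtain ⟨c, hc⟩ := Algebra.mem_bot.mp hmem
    have hax : ∀ x, ρ a x = c • x := fun x => (LinearMap.congr_fun hc x).symm
    refine ⟨Units.mk0 c fun h0 => ?_, hax⟩
    obtain ⟨x, hx⟩ := exists_ne (0 : V)
    exact hx ((ρ a).map_eq_zero_iff.mp (by rw [hax, h0, zero_smul]))
  -- conjugation on the field
  let ψf : X → (K ≃ₐ[ZMod p] K) := fun g =>
    { toFun := fun z => ⟨cjEnd ρ g z, cjEnd_mem_alg ρ g z.2⟩
      invFun := fun z => ⟨cjEnd ρ g⁻¹ z, cjEnd_mem_alg ρ g⁻¹ z.2⟩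
      left_inv := fun z => Subtype.ext (by simp [cjEnd_cjEnd, cjEnd_one])
      right_inv := fun z => Subtype.ext (by simp [cjEnd_cjEnd, cjEnd_one])
      map_mul' := fun y z => Subtype.ext (cjEnd_mul ρ g _ _)
      map_add' := fun y z => Subtype.ext (by simp [cjEnd, mul_add, add_mul])
      commutes' := fun c => Subtype.ext (LinearMap.ext fun x => by
        simp [cjEnd_apply, ← LinearEquiv.mul_apply, ← map_mul]) }
  let ψ : X →* (K ≃ₐ[ZMod p] K) := MonoidHom.mk' ψf fun g h =>
    AlgEquiv.ext fun z => Subtype.ext (cjEnd_cjEnd ρ g h z).symm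
  have hgal : Nat.card (K ≃ₐ[ZMod p] K) ≤ e := le_of_eq_of_le Nat.card_eq_fintype_card AlgEquiv.card_le
  let C := ψ.ker
  have hC : ∀ (c : C) (z : K) (x : V), ρ c (z • x) = z • ρ c x := by
    intro c z x
    have h := congrArg (fun φ : K ≃ₐ[ZMod p] K => ((φ z : K) : Module.End (ZMod p) V) (ρ c x))
      (MonoidHom.mem_ker.mp c.2)
    simp only [hsmul]
    refine Eq.trans ?_ h
    show ρ c _ = cjEnd ρ c z (ρ c x)
    simp [cjEnd_apply, ← LinearEquiv.mul_apply, ← map_mul]
  let ρK : C →* (V ≃ₗ[K] V) := MonoidHom.mk' (fun c => { (ρ c).toAddEquiv with map_smul' := hC c })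
    fun c d => LinearEquiv.ext fun x => by
      show ρ (c * d : C) x = ρ c (ρ d x)
      rw [Subgroup.coe_mul, map_mul]; rfl
  have hρK : Function.Injective ρK := fun c d h => Subtype.ext (hρ (LinearEquiv.ext fun x =>
    DFunLike.congr_fun h x))
  have hab : ∀ B : Subgroup C, B.Characteristic → (∀ a ∈ B, ∀ b ∈ B, a * b = b * a) → B ≤ scal ρK := by
    intro B hB hBc
    haveI := hB
    haveI : (B.map C.subtype).Normal := inferInstance
    have hcomm : ∀ a ∈ A, ∀ b ∈ B.map C.subtype, a * b = b * a := by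
      rintro a ha _ ⟨b, -, rfl⟩
      refine hρ (LinearEquiv.ext fun x => ?_)
      rw [map_mul, map_mul, LinearEquiv.mul_apply, LinearEquiv.mul_apply]
      exact (hC b ⟨_, mem_alg ρ ha⟩ x).symm
    have hAB := hmax (A ⊔ B.map C.subtype) le_sup_left inferInstance (by
      intro x hx y hy
      obtain ⟨a, ha, b, hb, rfl⟩ := Subgroup.mem_sup_of_normal_left.mp hx
      obtain ⟨a', ha', b', hb', rfl⟩ := Subgroup.mem_sup_of_normal_left.mp hy
      have hbb : b * b' = b' * b := by
        obtain ⟨c, hc, rfl⟩ := hb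
        obtain ⟨c', hc', rfl⟩ := hb'
        exact congrArg Subtype.val (hBc c hc c' hc')
      calc a * b * (a' * b') = a * a' * (b * b') := by
            rw [mul_assoc, ← mul_assoc b, ← hcomm a' ha' b hb]; group
        _ = a' * a * (b' * b) := by rw [hA a ha a' ha', hbb]
        _ = a' * b' * (a * b) := by rw [mul_assoc, ← mul_assoc a, hcomm a ha b' hb']; group)
    intro b hb
    have hbA : (b : X) ∈ A := hAB ▸ Subgroup.mem_sup_right ⟨b, hb, rfl⟩
    refine ⟨Units.mk0 ⟨_, mem_alg ρ hbA⟩ fun h0 => ?_, fun x => rfl⟩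
    obtain ⟨x, hx⟩ := exists_ne (0 : V)
    exact hx ((ρ (b : X)).map_eq_zero_iff.mp (LinearMap.congr_fun (congrArg Subtype.val h0) x))
  refine ⟨e, f, he2, hef, fun B hB => ?_, fun hf1 c₀ hc₀ hL => ?_⟩
  · obtain ⟨T, instT, hfin, ω, σ, hker, hω, hsize, hF, -⟩ := exists_pairing ρK hρK hab
    obtain ⟨M, hM, hle⟩ := hB T K ω (C ⧸ σ.ker) (QuotientGroup.kerLift σ) (QuotientGroup.kerLift_injective σ)
      (fun q => QuotientGroup.induction_on q hω) hsize (fun a => hcK ▸ ω.exp_dvd units_pow_card_sub_one a)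
    have hs : Nat.card (scal ρK) ≤ p ^ e - 1 := hcK ▸ card_scal_le ρK hρK
    have hCb : ClassBound C ((p ^ e - 1) * B) := by
      refine (classBound_of_pairing (fittingSubgroup C) σ hker le_rfl hM).mono ?_
      rw [hF, mul_assoc]
      exact Nat.mul_le_mul hs hle
    rw [mul_comm]
    exact classBound_of_hom ψ hCb (classBound_of_card hgal)
  · obtain ⟨v, hv⟩ := exists_ne (0 : V)
    have hspan : ∀ x : V, ∃ z : K, z • v = x := fun x =>
      (finrank_eq_one_iff_of_nonzero' v hv).mp hf1 x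
    have hinj : Function.Injective fun c : C => ρ c v := fun c d h => Subtype.ext (hρ (LinearEquiv.ext fun x => by
      obtain ⟨z, rfl⟩ := hspan x
      rw [hC, hC]; exact congrArg (z • ·) h))
    have hcardC : Nat.card C ≤ p ^ e - 1 := by
      have hV : Nat.card V = p ^ e := by rw [Module.natCard_eq_pow_finrank (K := K), hcK, ← hf, hf1, pow_one]
      have := Fintype.ofFinite V
      refine (Nat.card_le_card_of_injective
        (fun c : C => (⟨ρ c v, fun h => hv ((ρ c).map_eq_zero_iff.mp h)⟩ : {x : V // x ≠ 0}))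
        fun c d h => hinj (congrArg Subtype.val h :)).trans (le_of_eq ?_)
      rw [Nat.card_eq_fintype_card]
      simp only [ne_eq]
      rw [Fintype.card_subtype_compl, Fintype.card_subtype_eq, ← Nat.card_eq_fintype_card, hV]
    refine (classBound_of_centralizer (C : Set X) (one_mem C) (c := e * c₀) ?_ fun x hx => ?_).mono (by
      show Nat.card C + e * c₀ - 1 ≤ _
      omega)
    · exact Nat.mul_pos (by omega) hc₀
    let L : Subalgebra (ZMod p) K := AlgHom.equalizer (ψ x).toAlgHom (AlgHom.id (ZMod p) K)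
    haveI : IsDomain L := inferInstance
    letI : Field L := (Finite.isField_of_domain L).toField
    obtain ⟨i, hi, hcL⟩ : ∃ i, i < e ∧ Nat.card L = p ^ i := by
      refine ⟨Module.finrank (ZMod p) L, ?_, by rw [Module.natCard_eq_pow_finrank (K := ZMod p), Nat.card_zmod]⟩
      show Module.finrank (ZMod p) (Subalgebra.toSubmodule L) < Module.finrank (ZMod p) K
      refine Submodule.finrank_lt (lt_of_le_of_ne le_top fun h => hx ?_).ne
      refine MonoidHom.mem_ker.mpr (AlgEquiv.ext fun z => ?_)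
      have hz : z ∈ Subalgebra.toSubmodule L := h ▸ Submodule.mem_top
      exact hz
    have hdvd : p ^ i - 1 ∣ p ^ e - 1 := by
      rw [← hcL, ← hcK, ← Nat.card_units, ← Nat.card_units]
      exact Subgroup.card_dvd_of_injective (Units.map (L.val : L →ₐ[ZMod p] K).toRingHom.toMonoidHom)
        (Units.map_injective Subtype.val_injective)
    let r : {y : X // Commute x y} → X := fun y => y
    let q : Subgroup X :=
      { carrier := {y | Commute x y}
        mul_mem' := fun h h' => Commute.mul_right h h'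
        one_mem' := Commute.one_right x
        inv_mem' := fun h => Commute.inv_right h }
    show Nat.card q ≤ e * c₀
    let ψq : q →* (K ≃ₐ[ZMod p] K) := ψ.comp q.subtype
    rw [← Subgroup.index_mul_card ψq.ker, Subgroup.index_ker]
    refine Nat.mul_le_mul ((Nat.card_le_card_of_injective _ Subtype.val_injective).trans hgal) ?_
    refine le_trans ?_ (hL i hi hdvd)
    rw [← hcL]
    have hz : ∀ y : ψq.ker, ∃ z : L, z ≠ 0 ∧ ((z : L) : K) • v = ρ (y : q) v := by
      intro y
      obtain ⟨z, hz⟩ := hspan (ρ (y : q) v)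
      have hzy : (z : Module.End (ZMod p) V) = (ρ ((y : q) : X) : V →ₗ[ZMod p] V) := LinearMap.ext fun w => by
        obtain ⟨s, rfl⟩ := hspan w
        rw [← hsmul, LinearEquiv.coe_coe, hC ⟨((y : q) : X), y.2⟩, ← hz, smul_smul, smul_smul, mul_comm]
      refine ⟨⟨z, Subtype.ext ?_⟩, fun h => ?_, hz⟩
      · show cjEnd ρ x (z : Module.End (ZMod p) V) = (z : Module.End (ZMod p) V)
        rw [hzy, cjEnd, coe_mul_coe, coe_mul_coe, (y : q).2.eq, mul_inv_cancel_right]
      · have hz0 : z = 0 := congrArg Subtype.val h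
        rw [hz0, zero_smul] at hz
        exact hv ((ρ ((y : q) : X)).map_eq_zero_iff.mp hz.symm)
    choose g hg0 hg using hz
    rw [← Nat.card_units]
    refine Nat.card_le_card_of_injective (fun y => Units.mk0 (g y) (hg0 y)) fun y y' h => ?_
    have h' : g y = g y' := congrArg Units.val h
    have := hinj (a₁ := ⟨((y : q) : X), y.2⟩) (a₂ := ⟨((y' : q) : X), y'.2⟩) (by
      show ρ ((y : q) : X) v = ρ ((y' : q) : X) v
      rw [← hg y, ← hg y', h'])
    exact Subtype.ext (Subtype.ext (congrArg Subtype.val this :))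

end cases

/-- The bound by cases. -/
theorem fbound_of {p : ℕ} [Fact p.Prime] {d M : ℕ} (hd : 1 ≤ d) (hM : 1 ≤ M)
    (hs : p = 2 ∨ IrreducibleBound.{u, u, 0} d ∧ (p - 1) * (d * d) * 3 ^ (d - 1) ≤ M)
    (ht : ∀ t m, 2 ≤ t → t * m = d → ∃ M', FBound.{u} p m M' ∧ M' ^ t * 3 ^ (t - 1) ≤ M)
    (hf : ∀ e f, 2 ≤ e → e * f = d → (∃ B, PairBound.{u} (p ^ e - 1) f B ∧ e * ((p ^ e - 1) * B) ≤ M) ∨
      (f = 1 ∧ ∃ c₀, 1 ≤ c₀ ∧ (∀ i < e, p ^ i - 1 ∣ p ^ e - 1 → p ^ i - 1 ≤ c₀) ∧
        (p ^ e - 1) + e * c₀ - 1 ≤ M)) : FBound.{u} p d M := by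
  intro X _ _ _ V _ _ _ ρ hρ hdim hirr
  classical
  subst hdim
  haveI : Nontrivial V := Module.nontrivial_of_finrank_pos (R := ZMod p) (by omega)
  by_cases hns : ∀ B : Subgroup X, B.Normal → (∀ a ∈ B, ∀ b ∈ B, a * b = b * a) → B ≤ scal ρ
  · exact scalar_case ρ hρ hns hM hs
  push Not at hns
  obtain ⟨A₀, hA₀n, hA₀c, hA₀s⟩ := hns
  obtain ⟨A, hA0, ⟨⟨hAn, hAc⟩, hAmax⟩⟩ := (Set.toFinite
    {B : Subgroup X | B.Normal ∧ ∀ a ∈ B, ∀ b ∈ B, a * b = b * a}).exists_le_maximal (a := A₀) ⟨hA₀n, hA₀c⟩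
  haveI := hAn
  rcases exists_blocks ρ hAc (coprime_of_irreducible ρ hρ hirr A hAc) with hfield | ⟨D, hD2, htr⟩
  · obtain ⟨e, f, he, hef, hB, hone⟩ := field_case ρ hρ A hAc (fun h => hA₀s (hA0.trans h))
      (fun B hle hBn hBc => le_antisymm (hAmax ⟨hBn, hBc⟩ hle) hle) hfield
    rcases hf e f he hef with ⟨B, hP, hle⟩ | ⟨hf1, c₀, hc₀, hL, hle⟩
    · exact (hB B hP).mono hle
    · exact (hone hf1 c₀ hc₀ hL).mono hle
  · obtain ⟨t, m, h2, htm, hB⟩ := blocks_case ρ hρ hirr D hD2 (htr hirr)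
    obtain ⟨M', hM', hle⟩ := ht t m h2 htm
    exact (hB M' hM').mono hle

end CfsgLib.SolvClass
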