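import Cfsg.Agent.Lib.SolvClass.Basic

/-!
Nondegenerate alternating pairings on finite abelian groups with values in the units of a field, and solvable
groups of automorphisms preserving one with no invariant isotropic subgroup.
-/

set_option autoImplicit false
set_option linter.unusedSectionVars false
set_option linter.style.haveILetI false

namespace CfsgLib.SolvClass

universe u v w

variable {A : Type v} [CommGroup A] {k : Type w} [Field k]

/-- A nondegenerate alternating pairing with values in `kˣ`. -/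
structure Pairing (A : Type v) [CommGroup A] (k : Type w) [Field k] where
  toFun : A → A → kˣ
  mul_left : ∀ a b c, toFun (a * b) c = toFun a c * toFun b c
  mul_right : ∀ a b c, toFun a (b * c) = toFun a b * toFun a c
  self : ∀ a, toFun a a = 1
  nondeg : ∀ a, (∀ b, toFun a b = 1) → a = 1

namespace Pairing

variable (ω : Pairing A k)

/-- The pairing as a homomorphism in the left variable. -/
def left (c : A) : A →* kˣ := MonoidHom.mk' (fun a => ω.toFun a c) fun a b => ω.mul_left a b c

/-- The pairing as a homomorphism in the right variable. -/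
def right (c : A) : A →* kˣ := MonoidHom.mk' (fun a => ω.toFun c a) fun a b => ω.mul_right c a b

@[simp] theorem left_apply (c a : A) : ω.left c a = ω.toFun a c := rfl
@[simp] theorem right_apply (c a : A) : ω.right c a = ω.toFun c a := rfl

theorem one_left (c : A) : ω.toFun 1 c = 1 := map_one (ω.left c)
theorem one_right (c : A) : ω.toFun c 1 = 1 := map_one (ω.right c)
theorem pow_left (a c : A) (n : ℕ) : ω.toFun (a ^ n) c = ω.toFun a c ^ n := map_pow (ω.left c) a n
theorem pow_right (a c : A) (n : ℕ) : ω.toFun c (a ^ n) = ω.toFun c a ^ n := map_pow (ω.right c) a n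

theorem swap (a b : A) : ω.toFun a b * ω.toFun b a = 1 := by
  have h := ω.self (a * b)
  rwa [ω.mul_left, ω.mul_right, ω.mul_right, ω.self, ω.self, one_mul, mul_one] at h

theorem eq_one_comm {a b : A} (h : ω.toFun a b = 1) : ω.toFun b a = 1 := by
  have := ω.swap a b
  rwa [h, one_mul] at this

/-- The orthogonal complement. -/
def perp (U : Subgroup A) : Subgroup A where
  carrier := {a | ∀ u ∈ U, ω.toFun a u = 1}
  mul_mem' := fun {a b} ha hb u hu => by rw [ω.mul_left, ha u hu, hb u hu, one_mul]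
  one_mem' := fun u _ => ω.one_left u
  inv_mem' := fun {a} ha u hu => by
    have := map_inv (ω.left u) a
    simp only [left_apply] at this
    rw [this, ha u hu, inv_one]

theorem mem_perp {U : Subgroup A} {a : A} : a ∈ ω.perp U ↔ ∀ u ∈ U, ω.toFun a u = 1 := Iff.rfl

theorem card_hom_units_le (U : Type v) [CommGroup U] [Finite U] : Finite (U →* kˣ) ∧ Nat.card (U →* kˣ) ≤ Nat.card U := by
  classical
  have := Fintype.ofFinite U
  have hli : LinearIndependent k (fun f : U →* kˣ => ((Units.coeHom k).comp f : U → k)) :=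
    (linearIndependent_monoidHom U k).comp (fun f : U →* kˣ => (Units.coeHom k).comp f) fun f g e =>
      MonoidHom.ext fun x => Units.ext (DFunLike.congr_fun e x)
  have hfin : Finite (U →* kˣ) := hli.finite
  have := Fintype.ofFinite (U →* kˣ)
  refine ⟨hfin, ?_⟩
  have h := hli.fintype_card_le_finrank
  rwa [Module.finrank_fintype_fun_eq_card, ← Nat.card_eq_fintype_card, ← Nat.card_eq_fintype_card] at h

/-- A subgroup meeting its complement trivially splits the group. -/
theorem sup_perp [Finite A] {U : Subgroup A} (hU : U ⊓ ω.perp U = ⊥) :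
    U ⊔ ω.perp U = ⊤ := by
  classical
  let res : A →* (U →* kˣ) :=
    MonoidHom.mk' (fun a => (ω.right a).comp U.subtype) fun a b => MonoidHom.ext fun u => ω.mul_left a b u
  obtain ⟨hfin, hcard⟩ := card_hom_units_le (k := k) U
  have hinj : Function.Injective (res.comp U.subtype) := by
    refine (injective_iff_map_eq_one _).mpr fun u hu => Subtype.ext ?_
    have : (u : A) ∈ U ⊓ ω.perp U := ⟨u.2, fun v hv => DFunLike.congr_fun hu ⟨v, hv⟩⟩
    rw [hU] at this
    exact this
  have hbij := (Nat.bijective_iff_injective_and_card (res.comp U.subtype)).mpr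
    ⟨hinj, le_antisymm (Nat.card_le_card_of_injective _ hinj) hcard⟩
  refine (Subgroup.eq_top_iff' _).mpr fun a => ?_
  obtain ⟨u, hu⟩ := hbij.2 (res a)
  have h : a * (u : A)⁻¹ ∈ ω.perp U := fun v hv => by
    have e : ω.toFun (u : A) v = ω.toFun a v := DFunLike.congr_fun hu ⟨v, hv⟩
    have := ω.mul_left a (u : A)⁻¹ v
    rw [this, show ω.toFun ((u : A)⁻¹) v = (ω.toFun (u : A) v)⁻¹ from map_inv (ω.left v) _, e, mul_inv_cancel]
  rw [show a = (u : A) * (a * (u : A)⁻¹) by rw [mul_left_comm, mul_inv_cancel, mul_one]]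
  exact mul_mem (Subgroup.mem_sup_left u.2) (Subgroup.mem_sup_right h)

theorem card_mul_perp [Finite A] {U : Subgroup A} (hU : U ⊓ ω.perp U = ⊥) :
    Nat.card A = Nat.card U * Nat.card (ω.perp U) :=
  (Subgroup.IsComplement'.card_mul (Subgroup.isComplement'_of_disjoint_and_mul_eq_univ
    (disjoint_iff.mpr hU) (by rw [← Subgroup.mul_normal, ω.sup_perp hU, Subgroup.coe_top]))).symm

/-- The restriction to a subgroup meeting its complement trivially. -/
def restrict (U : Subgroup A) (hU : U ⊓ ω.perp U = ⊥) : Pairing U k where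
  toFun := fun a b => ω.toFun a b
  mul_left := fun a b c => ω.mul_left a b c
  mul_right := fun a b c => ω.mul_right a b c
  self := fun a => ω.self a
  nondeg := fun a ha => Subtype.ext (by
    have : (a : A) ∈ U ⊓ ω.perp U := ⟨a.2, fun v hv => ha ⟨v, hv⟩⟩
    rw [hU] at this
    exact this)

theorem perp_inf_perp [Finite A] {U : Subgroup A} (hU : U ⊓ ω.perp U = ⊥) :
    ω.perp U ⊓ ω.perp (ω.perp U) = ⊥ := by
  rw [Subgroup.eq_bot_iff_forall]
  rintro x ⟨hx1, hx2⟩
  refine ω.nondeg x fun b => ?_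
  have hb : b ∈ U ⊔ ω.perp U := ω.sup_perp hU ▸ Subgroup.mem_top b
  obtain ⟨u, hu, v, hv, rfl⟩ := Subgroup.mem_sup.mp hb
  rw [ω.mul_right, hx1 u hu, hx2 v hv, one_mul]

/-- The order of an elementary abelian group with such a pairing is a square. -/
theorem card_sq {p : ℕ} (hp : p.Prime) : ∀ (n : ℕ) {A : Type v} [CommGroup A] [Finite A] (_ : Pairing A k),
    Nat.card A = n → (∀ a : A, a ^ p = 1) → ∃ m, n = p ^ (2 * m) := by
  intro n
  induction n using Nat.strong_induction_on with
  | _ n ih =>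
    intro A _ _ ω hn hexp
    by_cases h1 : ∀ a : A, a = 1
    · have : Subsingleton A := ⟨fun a b => (h1 a).trans (h1 b).symm⟩
      exact ⟨0, by rw [← hn, Nat.card_unique, mul_zero, pow_zero]⟩
    push Not at h1
    obtain ⟨a, ha⟩ := h1
    obtain ⟨b, hb⟩ : ∃ b, ω.toFun a b ≠ 1 := by
      by_contra hc
      push Not at hc
      exact ha (ω.nondeg a hc)
    haveI := Fact.mk hp
    have hz : orderOf (ω.toFun a b) = p := orderOf_eq_prime (by rw [← ω.pow_left, hexp, ω.one_left]) hb
    let f : ZMod p × ZMod p → A := fun x => a ^ x.1.val * b ^ x.2.val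
    let U := Subgroup.zpowers a ⊔ Subgroup.zpowers b
    have hf : ∀ x, f x ∈ U := fun x => mul_mem (Subgroup.mem_sup_left (pow_mem (Subgroup.mem_zpowers a) _))
      (Subgroup.mem_sup_right (pow_mem (Subgroup.mem_zpowers b) _))
    have hzp : ∀ (c : A) (x : A), x ∈ Subgroup.zpowers c → ∃ i : ZMod p, x = c ^ i.val := by
      intro c x hx
      obtain ⟨j, -, rfl⟩ : ∃ j : ℕ, True ∧ c ^ j = x := by
        obtain ⟨j, hj⟩ := (mem_powers_iff_mem_zpowers (x := c) (y := x)).mpr hx
        exact ⟨j, trivial, hj⟩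
      exact ⟨j, by rw [ZMod.val_natCast]; exact pow_eq_pow_mod j (hexp c)⟩
    have hsurj : ∀ x ∈ U, ∃ y, f y = x := by
      intro x hx
      obtain ⟨s, hs, t, ht, rfl⟩ := Subgroup.mem_sup.mp hx
      obtain ⟨i, rfl⟩ := hzp a s hs
      obtain ⟨j, rfl⟩ := hzp b t ht
      exact ⟨(i, j), rfl⟩
    have hval : ∀ x : ZMod p × ZMod p, ω.toFun (f x) b = ω.toFun a b ^ x.1.val ∧
        ω.toFun a (f x) = ω.toFun a b ^ x.2.val := fun x => by
      simp only [f, ω.mul_left, ω.mul_right, ω.pow_left, ω.pow_right, ω.self, one_pow, one_mul, mul_one,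
        and_self]
    have hker : ∀ x, ω.toFun (f x) b = 1 → ω.toFun a (f x) = 1 → x = 0 := by
      intro x h1 h2
      rw [(hval x).1] at h1
      rw [(hval x).2] at h2
      have e1 := Nat.eq_zero_of_dvd_of_lt (hz ▸ orderOf_dvd_of_pow_eq_one h1) (ZMod.val_lt _)
      have e2 := Nat.eq_zero_of_dvd_of_lt (hz ▸ orderOf_dvd_of_pow_eq_one h2) (ZMod.val_lt _)
      exact Prod.ext ((ZMod.val_eq_zero _).mp e1) ((ZMod.val_eq_zero _).mp e2)
    have hU : U ⊓ ω.perp U = ⊥ := by
      rw [Subgroup.eq_bot_iff_forall]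
      rintro x ⟨hx, hxp⟩
      obtain ⟨y, rfl⟩ := hsurj x hx
      have := hker y (hxp b (Subgroup.mem_sup_right (Subgroup.mem_zpowers b)))
        (ω.eq_one_comm (hxp a (Subgroup.mem_sup_left (Subgroup.mem_zpowers a))))
      simp [this, f]
    have hcardU : Nat.card U = p ^ 2 := by
      have e : Nat.card (ZMod p × ZMod p) = Nat.card U := by
        refine Nat.card_eq_of_bijective (fun y => (⟨f y, hf y⟩ : U)) ⟨fun x y e => ?_, fun x => ?_⟩
        · have e' : f x = f y := congrArg Subtype.val e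
          have hlt : ∀ z : ZMod p, z.val ∈ Set.Iio (orderOf (ω.toFun a b)) := fun z => by
            rw [Set.mem_Iio, hz]; exact ZMod.val_lt z
          have e1 := congrArg (ω.toFun · b) e'
          have e2 := congrArg (ω.toFun a ·) e'
          simp only [(hval x).1, (hval y).1, (hval x).2, (hval y).2] at e1 e2
          exact Prod.ext (ZMod.val_injective p (pow_injOn_Iio_orderOf (hlt _) (hlt _) e1))
            (ZMod.val_injective p (pow_injOn_Iio_orderOf (hlt _) (hlt _) e2))
        · obtain ⟨y, hy⟩ := hsurj x x.2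
          exact ⟨y, Subtype.ext hy⟩
      rw [← e, Nat.card_prod, Nat.card_zmod, sq]
    have hsplit := ω.card_mul_perp hU
    rw [hn, hcardU] at hsplit
    have hpos : 0 < Nat.card (ω.perp U) := Nat.card_pos
    have hlt : Nat.card (ω.perp U) < n := by
      rw [hsplit]
      exact lt_mul_of_one_lt_left hpos (Nat.one_lt_pow (by norm_num) hp.one_lt)
    obtain ⟨m, hm⟩ := ih _ hlt (ω.restrict _ (ω.perp_inf_perp hU)) rfl
      (fun x => Subtype.ext (hexp x))
    exact ⟨m + 1, by rw [hsplit, hm, ← pow_add]; congr 1; omega⟩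

end Pairing

/-- The irreducible case of the bound at a prime power `p ^ n`. -/
def IrreducibleBound.{u', v', w'} (N : ℕ) : Prop :=
  ∀ (p n : ℕ), p.Prime → p ^ n ≤ N → ∀ (A : Type v') [CommGroup A] [Finite A] (k : Type w') [Field k]
    (ω : Pairing A k) (Y : Type u') [Group Y] [Finite Y] [Group.IsSolvable Y] (ρ : Y →* MulAut A),
    (∀ a : A, a ^ p = 1) → Nat.card A = p ^ (2 * n) → Function.Injective ρ →
    (∀ y a b, ω.toFun (ρ y a) (ρ y b) = ω.toFun a b) →
    (∀ U : Subgroup A, (∀ y, ∀ u ∈ U, ρ y u ∈ U) → U = ⊥ ∨ U = ⊤) → 1 ≤ n →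
    ClassBound Y (3 ^ (p ^ n - 1))

theorem arith_mul {a b : ℕ} (ha : 1 ≤ a) (hb : 1 ≤ b) : 3 ^ (a - 1) * 3 ^ (b - 1) ≤ 3 ^ (a * b - 1) := by
  rw [← pow_add]
  refine Nat.pow_le_pow_right (by norm_num) ?_
  obtain ⟨a, rfl⟩ := Nat.exists_eq_add_of_le ha
  obtain ⟨b, rfl⟩ := Nat.exists_eq_add_of_le hb
  have : (1 + a) * (1 + b) = 1 + a + b + a * b := by ring
  omega

/-- The restriction of an action to an invariant subgroup. -/
def restrictAut {Y : Type u} [Group Y] (ρ : Y →* MulAut A) (U : Subgroup A)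
    (hU : ∀ y, ∀ u ∈ U, ρ y u ∈ U) : Y →* MulAut U where
  toFun := fun y =>
    { toFun := fun u => ⟨ρ y u, hU y u u.2⟩
      invFun := fun u => ⟨ρ y⁻¹ u, hU y⁻¹ u u.2⟩
      left_inv := fun u => Subtype.ext (by show ρ y⁻¹ (ρ y u) = u; rw [map_inv]; exact (ρ y).symm_apply_apply _)
      right_inv := fun u => Subtype.ext (by show ρ y (ρ y⁻¹ u) = u; rw [map_inv]; exact (ρ y).apply_symm_apply _)
      map_mul' := fun a b => Subtype.ext (map_mul (ρ y) (a : A) b) }
  map_one' := MulEquiv.ext fun u => Subtype.ext (by simp)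
  map_mul' := fun y z => MulEquiv.ext fun u => Subtype.ext (by simp [MulAut.mul_apply])

/-- Solvable groups preserving a pairing with no invariant isotropic subgroup. -/
theorem pairing_bound {N : ℕ} (hN : IrreducibleBound.{u, v, w} N) :
    ∀ (c : ℕ) (A : Type v) [CommGroup A] [Finite A] (ω : Pairing A k) (Y : Type u) [Group Y] [Finite Y]
      [Group.IsSolvable Y] (ρ : Y →* MulAut A), Nat.card A = c → c ≤ N * N → Function.Injective ρ →
      (∀ y a b, ω.toFun (ρ y a) (ρ y b) = ω.toFun a b) →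
      (∀ U : Subgroup A, (∀ y, ∀ u ∈ U, ρ y u ∈ U) → (∀ a ∈ U, ∀ b ∈ U, ω.toFun a b = 1) → U = ⊥) →
      ∃ m, c = m * m ∧ ClassBound Y (3 ^ (m - 1)) := by
  intro c
  induction c using Nat.strong_induction_on with
  | _ c ih =>
    intro A _ _ ω Y _ _ _ ρ hc hcN hinj hω hiso
    classical
    by_cases hA : Nat.card A = 1
    · refine ⟨1, by omega, classBound_of_card ?_⟩
      have : Subsingleton A := (Nat.card_eq_one_iff_unique.mp hA).1
      have : Subsingleton Y := ⟨fun y z => hinj (MulEquiv.ext fun a => Subsingleton.elim _ _)⟩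
      simp [Nat.card_unique]
    have hexU : ∃ m, ∃ U : Subgroup A, U ≠ ⊥ ∧ (∀ y, ∀ u ∈ U, ρ y u ∈ U) ∧ Nat.card U = m :=
      ⟨_, ⊤, fun e => hA (by rw [← Subgroup.card_top, e, Subgroup.card_bot]),
        fun _ _ _ => Subgroup.mem_top _, rfl⟩
    obtain ⟨U, hU1, hUinv, hUc⟩ := Nat.find_spec hexU
    have hmin : ∀ W : Subgroup A, W ≤ U → (∀ y, ∀ u ∈ W, ρ y u ∈ W) → W = ⊥ ∨ W = U := by
      intro W hWU hW
      by_cases hW1 : W = ⊥
      · exact Or.inl hW1
      · exact Or.inr (Subgroup.eq_of_le_of_card_ge hWU (hUc ▸ Nat.find_min' hexU ⟨W, hW1, hW, rfl⟩))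
    have hperp : ∀ y, ∀ a ∈ ω.perp U, ρ y a ∈ ω.perp U := fun y a ha u hu => by
      have := hω y a (ρ y⁻¹ u)
      rw [map_inv, MulAut.inv_def, MulEquiv.apply_symm_apply] at this
      rw [this]
      exact ha _ (by simpa [map_inv] using hUinv y⁻¹ u hu)
    have hUU : U ⊓ ω.perp U = ⊥ := hiso _ (fun y u hu => ⟨hUinv y u hu.1, hperp y u hu.2⟩)
      fun a ha b hb => ha.2 b hb.1
    -- the minimal invariant subgroup is elementary
    obtain ⟨p, hp, hpU⟩ := Nat.exists_prime_and_dvd (n := Nat.card U)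
      (fun e => hU1 (Subgroup.card_eq_one.mp e))
    haveI := Fact.mk hp
    have hexp : ∀ u : U, u ^ p = 1 := by
      let W : Subgroup A := U ⊓ (powMonoidHom p : A →* A).ker
      have hW : W = U := by
        refine (hmin W inf_le_left fun y u hu => ⟨hUinv y u hu.1, ?_⟩).resolve_left fun e => ?_
        · show (ρ y u) ^ p = 1
          rw [← map_pow, show u ^ p = 1 from hu.2, map_one]
        · obtain ⟨x, hx⟩ := exists_prime_orderOf_dvd_card' p hpU
          have hxW : (x : A) ∈ W := ⟨x.2, by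
            show (x : A) ^ p = 1
            rw [← Subgroup.coe_pow, ← hx, pow_orderOf_eq_one, Subgroup.coe_one]⟩
          rw [e, Subgroup.mem_bot, OneMemClass.coe_eq_one] at hxW
          rw [hxW, orderOf_one] at hx
          exact hp.one_lt.ne hx
      intro u
      have : (u : A) ∈ W := hW.symm ▸ u.2
      exact Subtype.ext this.2
    obtain ⟨n, hn⟩ := Pairing.card_sq hp _ (ω.restrict U hUU) rfl hexp
    have hn1 : 1 ≤ n := by
      rcases Nat.eq_zero_or_pos n with rfl | h
      · exact absurd (Subgroup.card_eq_one.mp (by simpa using hn)) hU1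
      · exact h
    let ρU := restrictAut ρ U hUinv
    let ρP := restrictAut ρ (ω.perp U) hperp
    have hsplit := ω.card_mul_perp hUU
    have hPpos : 0 < Nat.card (ω.perp U) := Nat.card_pos
    have hU2 : 1 < Nat.card U := (Subgroup.one_lt_card_iff_ne_bot U).mpr hU1
    obtain ⟨m, hm, hbP⟩ := ih (Nat.card (ω.perp U)) (by rw [← hc, hsplit]; exact lt_mul_of_one_lt_left hPpos hU2)
      (ω.perp U) (ω.restrict _ (ω.perp_inf_perp hUU)) (Y ⧸ ρP.ker) (QuotientGroup.kerLift ρP) rfl
      ((Nat.le_mul_of_pos_left _ (by omega)).trans (hsplit ▸ hc ▸ hcN)) (QuotientGroup.kerLift_injective ρP)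
      (fun q => QuotientGroup.induction_on q fun y a b => hω y a b)
      (fun W hW hWi => by
        refine (Subgroup.map_eq_bot_iff_of_injective _ (ω.perp U).subtype_injective).mp
          (hiso (W.map (ω.perp U).subtype) ?_ ?_)
        · rintro y _ ⟨w, hw, rfl⟩
          exact ⟨_, hW (QuotientGroup.mk y) w hw, rfl⟩
        · rintro _ ⟨a, ha, rfl⟩ _ ⟨b, hb, rfl⟩
          exact hWi a ha b hb)
    have hm1 : 1 ≤ m := by
      rcases Nat.eq_zero_or_pos m with rfl | h
      · omega
      · exact h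
    have hpn : p ^ n ≤ N := by
      refine Nat.mul_self_le_mul_self_iff.mp (le_trans ?_ hcN)
      rw [← pow_add, ← two_mul, ← hn, ← hc, hsplit]
      exact Nat.le_mul_of_pos_right _ hPpos
    have hbU : ClassBound (Y ⧸ ρU.ker) (3 ^ (p ^ n - 1)) := by
      refine hN p n hp hpn U k (ω.restrict U hUU) (Y ⧸ ρU.ker) (QuotientGroup.kerLift ρU) hexp hn
        (QuotientGroup.kerLift_injective ρU) ?_ ?_ hn1
      · exact fun q => QuotientGroup.induction_on q fun y a b => hω y a b
      · intro W hW
        rcases hmin (W.map U.subtype) (Subgroup.map_subtype_le _) (by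
          rintro y _ ⟨w, hw, rfl⟩
          exact ⟨_, hW (QuotientGroup.mk y) w hw, rfl⟩) with h | h
        · exact Or.inl ((Subgroup.map_eq_bot_iff_of_injective _ U.subtype_injective).mp h)
        · exact Or.inr ((Subgroup.map_injective U.subtype_injective)
            (h.trans (by rw [← MonoidHom.range_eq_map, Subgroup.range_subtype])))
    refine ⟨p ^ n * m, ?_, ?_⟩
    · rw [← hc, hsplit, hn, hm, pow_mul', sq]; ring
    · refine ((classBound_prod hbU hbP).of_injective ((QuotientGroup.mk' ρU.ker).prod (QuotientGroup.mk' ρP.ker)) ?_).mono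
        (arith_mul (Nat.one_le_pow _ _ hp.pos) hm1)
      intro y z e
      refine hinj (MulEquiv.ext fun a => ?_)
      have ha : a ∈ U ⊔ ω.perp U := ω.sup_perp hUU ▸ Subgroup.mem_top a
      obtain ⟨u, hu, v, hv, rfl⟩ := Subgroup.mem_sup.mp ha
      have e1 := congrArg (fun q => (QuotientGroup.kerLift ρU q.1 ⟨u, hu⟩ : A)) e
      have e2 := congrArg (fun q => (QuotientGroup.kerLift ρP q.2 ⟨v, hv⟩ : A)) e
      rw [map_mul, map_mul]
      exact congrArg₂ (· * ·) e1 e2

end CfsgLib.SolvClass
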