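import Cfsg.Agent.Lib.SolvClass.Pairing
import Cfsg.Agent.Lib.PRegularClass
import Cfsg.Agent.Lib.Isolated.Core

/-!
A solvable linear group all of whose characteristic abelian subgroups are scalar: the Fitting subgroup modulo
scalars carries a nondegenerate commutator pairing and is self-centralising there.
-/

set_option autoImplicit false
set_option linter.unusedSectionVars false
set_option linter.style.haveILetI false

namespace CfsgLib.SolvClass

universe u v w

open Cfsg
open scoped commutatorElement

variable {k : Type w} [Field k] {V : Type v} [AddCommGroup V] [Module k V] {C : Type u} [Group C]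

/-- The elements acting as scalars. -/
def scal (ρ : C →* (V ≃ₗ[k] V)) : Subgroup C where
  carrier := {c | ∃ a : kˣ, ∀ x, ρ c x = (a : k) • x}
  mul_mem' := fun {c d} ⟨a, ha⟩ ⟨b, hb⟩ => ⟨a * b, fun x => by
    rw [map_mul, LinearEquiv.mul_apply, hb, map_smul, ha, smul_smul, mul_comm (b : k), Units.val_mul]⟩
  one_mem' := ⟨1, fun x => by simp⟩
  inv_mem' := fun {c} ⟨a, ha⟩ => ⟨a⁻¹, fun x => by
    apply (ρ c).injective
    rw [← LinearEquiv.mul_apply, ← map_mul, mul_inv_cancel, map_one, map_smul, ha, smul_smul,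
      Units.inv_mul, one_smul]
    rfl⟩

theorem mem_scal {ρ : C →* (V ≃ₗ[k] V)} {c : C} : c ∈ scal ρ ↔ ∃ a : kˣ, ∀ x, ρ c x = (a : k) • x :=
  Iff.rfl

theorem scal_comm {ρ : C →* (V ≃ₗ[k] V)} (hρ : Function.Injective ρ) {z : C} (hz : z ∈ scal ρ) (c : C) :
    c * z = z * c := by
  obtain ⟨a, ha⟩ := hz
  refine hρ (LinearEquiv.ext fun x => ?_)
  rw [map_mul, map_mul, LinearEquiv.mul_apply, LinearEquiv.mul_apply, ha, ha, map_smul]

theorem scal_normal {ρ : C →* (V ≃ₗ[k] V)} (hρ : Function.Injective ρ) : (scal ρ).Normal :=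
  ⟨fun z hz c => by rwa [scal_comm hρ hz c, mul_inv_cancel_right]⟩

/-- Commutators of the Fitting subgroup are scalar. -/
theorem fitting_commutator_scal [Finite C] (ρ : C →* (V ≃ₗ[k] V)) (hρ : Function.Injective ρ)
    (hab : ∀ A : Subgroup C, A.Characteristic → (∀ a ∈ A, ∀ b ∈ A, a * b = b * a) → A ≤ scal ρ) :
    ∀ a ∈ fittingSubgroup C, ∀ b ∈ fittingSubgroup C, ⁅a, b⁆ ∈ scal ρ := by
  classical
  set F := fittingSubgroup C with hFdef
  haveI : F.Normal := inferInstance
  haveI hFc : F.Characteristic := CfsgLib.Isolated.fitting_char C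
  haveI hFn : Group.IsNilpotent F := CfsgLib.isNilpotent_fittingSubgroup
  let γ := fun i => (Subgroup.lowerCentralSeries (⊤ : Subgroup F) i)
  have hchar : ∀ i, ((γ i).map F.subtype).Characteristic := fun i => by
    haveI : (γ i).Characteristic := Subgroup.lowerCentralSeries_characteristic _ i
    exact inferInstance
  obtain ⟨n, hn⟩ := (Subgroup.nilpotent_iff_lowerCentralSeries (G := F)).mp hFn
  suffices h1 : γ 1 ≤ (scal ρ).subgroupOf F by
    intro a ha b hb
    have : ⁅(⟨a, ha⟩ : F), ⟨b, hb⟩⁆ ∈ γ 1 := by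
      simp only [γ, Subgroup.lowerCentralSeries_succ, Subgroup.lowerCentralSeries_zero]
      exact Subgroup.commutator_mem_commutator (Subgroup.mem_top _) (Subgroup.mem_top _)
    exact h1 this
  have hstep : ∀ j, γ (j + 2) ≤ (scal ρ).subgroupOf F → γ (j + 1) ≤ (scal ρ).subgroupOf F := by
    intro j hj
    have h3 : γ (j + 3) = ⊥ := by
      rw [show γ (j + 3) = ⁅γ (j + 2), (⊤ : Subgroup F)⁆ from Subgroup.lowerCentralSeries_succ _ _,
        Subgroup.commutator_eq_bot_iff_le_centralizer]
      intro x hx
      rw [Subgroup.mem_centralizer_iff]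
      intro y _
      exact Subtype.ext (scal_comm hρ (hj hx) y)
    have h12 : ⁅⁅(⊤ : Subgroup F), (⊤ : Subgroup F)⁆, γ (j + 1)⁆ = ⊥ := by
      have e : ⁅⁅γ (j + 1), (⊤ : Subgroup F)⁆, (⊤ : Subgroup F)⁆ = ⊥ := by
        rw [← h3]; simp only [γ, Subgroup.lowerCentralSeries_succ]
      refine Subgroup.commutator_commutator_eq_bot_of_rotate ?_ e
      rw [Subgroup.commutator_comm (⊤ : Subgroup F) (γ (j + 1))]
      exact e
    have hle : γ (j + 1) ≤ ⁅(⊤ : Subgroup F), (⊤ : Subgroup F)⁆ := by
      simp only [γ, Subgroup.lowerCentralSeries_succ]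
      exact Subgroup.commutator_mono le_top le_rfl
    intro x hx
    refine hab _ (hchar (j + 1)) ?_ ⟨x, hx, rfl⟩
    rintro _ ⟨a, ha, rfl⟩ _ ⟨b, hb, rfl⟩
    have := Subgroup.mem_centralizer_iff.mp
      ((Subgroup.commutator_eq_bot_iff_le_centralizer.mp h12) (hle ha)) b hb
    exact (congrArg Subtype.val this).symm
  have hbot : ∀ i, γ (n + i) = ⊥ := fun i =>
    le_bot_iff.mp (hn ▸ Subgroup.lowerCentralSeries_antitone _ (Nat.le_add_right n i))
  have : ∀ i j, j + i = n → γ (j + 1) ≤ (scal ρ).subgroupOf F := by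
    intro i
    induction i with
    | zero => intro j hj; rw [add_zero] at hj; rw [hj, hbot 1]; exact bot_le
    | succ i ih => intro j hj; exact hstep j (ih (j + 1) (by omega))
  exact this n 0 (by omega)

/-- The commutator pairing of `Fit(C)` modulo scalars. -/
theorem exists_pairing [Finite C] [Group.IsSolvable C] [FiniteDimensional k V] [Nontrivial V]
    (ρ : C →* (V ≃ₗ[k] V)) (hρ : Function.Injective ρ)
    (hab : ∀ A : Subgroup C, A.Characteristic → (∀ a ∈ A, ∀ b ∈ A, a * b = b * a) → A ≤ scal ρ) :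
    ∃ (A : Type u) (_ : CommGroup A) (_ : Finite A) (ω : Pairing A k) (σ : C →* MulAut A),
      σ.ker = fittingSubgroup C ∧ (∀ c a b, ω.toFun (σ c a) (σ c b) = ω.toFun a b) ∧
      Nat.card A ≤ Module.finrank k V * Module.finrank k V ∧
      Nat.card (fittingSubgroup C) = Nat.card (scal ρ) * Nat.card A ∧
      ((∀ B : Subgroup C, B.Normal → (∀ a ∈ B, ∀ b ∈ B, a * b = b * a) → B ≤ scal ρ) →
        ∀ U : Subgroup A, (∀ c, ∀ u ∈ U, σ c u ∈ U) → (∀ a ∈ U, ∀ b ∈ U, ω.toFun a b = 1) → U = ⊥) := by
  classical
  set F := fittingSubgroup C with hFdef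
  haveI : F.Normal := inferInstance
  haveI hFc : F.Characteristic := CfsgLib.Isolated.fitting_char C
  haveI hFn : Group.IsNilpotent F := CfsgLib.isNilpotent_fittingSubgroup
  have hscal := scal_normal hρ
  have hZF : scal ρ ≤ F := by
    letI : CommGroup (scal ρ) :=
      { (inferInstance : Group (scal ρ)) with mul_comm := fun a b => Subtype.ext (scal_comm hρ b.2 a) }
    exact CfsgLib.le_fittingSubgroup (CommGroup.isNilpotent (G := scal ρ))
  -- the commutators of `F` are scalars
  have hcomm : ∀ a ∈ F, ∀ b ∈ F, ⁅a, b⁆ ∈ scal ρ := fitting_commutator_scal ρ hρ hab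
  -- the scalar of an element
  have hval : ∀ c : scal ρ, ∃ a : kˣ, ∀ x, ρ c x = (a : k) • x := fun c => c.2
  choose val hv using hval
  have huniq : ∀ a b : kˣ, (∀ x : V, (a : k) • x = (b : k) • x) → a = b := by
    intro a b h
    obtain ⟨x, hx⟩ := exists_ne (0 : V)
    exact Units.ext (smul_left_injective k hx (h x))
  let χ : scal ρ →* kˣ := MonoidHom.mk' val fun c d => huniq _ _ fun x => by
    rw [← hv, Subgroup.coe_mul, map_mul, LinearEquiv.mul_apply, hv, hv, smul_smul, Units.val_mul]
  have hχ : Function.Injective χ := fun c d e => Subtype.ext (hρ (LinearEquiv.ext fun x => by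
    rw [hv, hv]
    exact congrArg (fun a : kˣ => (a : k) • x) e))
  let P : F → F → scal ρ := fun a b => ⟨⁅(a : C), (b : C)⁆, hcomm a a.2 b b.2⟩
  have hPl : ∀ a b c : F, P (a * b) c = P a c * P b c := by
    intro a b c
    refine Subtype.ext ?_
    have h := scal_comm hρ (hcomm (b : C) b.2 c c.2) (a : C)
    show ⁅(a : C) * b, (c : C)⁆ = ⁅(a : C), (c : C)⁆ * ⁅(b : C), (c : C)⁆
    rw [scal_comm hρ (hcomm (b : C) b.2 c c.2) ⁅(a : C), (c : C)⁆]
    simp only [commutatorElement_def] at h ⊢
    calc (a : C) * b * c * ((a : C) * b)⁻¹ * (c : C)⁻¹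
        = (a : C) * ((b : C) * c * (b : C)⁻¹ * (c : C)⁻¹) * ((c : C) * (a : C)⁻¹ * (c : C)⁻¹) := by group
      _ = ((b : C) * c * (b : C)⁻¹ * (c : C)⁻¹) * (a : C) * ((c : C) * (a : C)⁻¹ * (c : C)⁻¹) := by rw [h]
      _ = _ := by group
  have hPswap : ∀ a b : F, P a b = (P b a)⁻¹ := fun a b => Subtype.ext (commutatorElement_inv _ _).symm
  have hPr : ∀ a b c : F, P a (b * c) = P a b * P a c := by
    intro a b c
    rw [hPswap, hPl, mul_inv_rev, ← hPswap, ← hPswap]
    exact Subtype.ext (scal_comm hρ (hcomm (a : C) a.2 b b.2) _)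
  have hPconj : ∀ (x : C) (a b : F), P ⟨x * a * x⁻¹, ‹F.Normal›.conj_mem _ a.2 x⟩
      ⟨x * b * x⁻¹, ‹F.Normal›.conj_mem _ b.2 x⟩ = P a b := by
    intro x a b
    refine Subtype.ext ?_
    have h := scal_comm hρ (hcomm (a : C) a.2 b b.2) x
    show ⁅x * a * x⁻¹, x * b * x⁻¹⁆ = ⁅(a : C), (b : C)⁆
    simp only [commutatorElement_def] at h ⊢
    calc x * a * x⁻¹ * (x * b * x⁻¹) * (x * a * x⁻¹)⁻¹ * (x * b * x⁻¹)⁻¹
        = x * ((a : C) * b * (a : C)⁻¹ * (b : C)⁻¹) * x⁻¹ := by group
      _ = _ := by rw [h, mul_inv_cancel_right]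
  -- the quotient
  let Z : Subgroup F := (scal ρ).subgroupOf F
  haveI : Z.Normal := hscal.subgroupOf F
  let A := F ⧸ Z
  have hAcomm : ∀ a b : A, a * b = b * a := by
    intro a b
    induction a using QuotientGroup.induction_on with | _ a => ?_
    induction b using QuotientGroup.induction_on with | _ b => ?_
    rw [← QuotientGroup.mk_mul, ← QuotientGroup.mk_mul, QuotientGroup.eq]
    show ((a * b)⁻¹ * (b * a) : C) ∈ scal ρ
    rw [show ((a * b)⁻¹ * (b * a) : C) = ⁅((b : C))⁻¹, (a : C)⁻¹⁆ by
      simp only [Subgroup.coe_mul, Subgroup.coe_inv, commutatorElement_def]; group]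
    exact hcomm _ (inv_mem b.2) _ (inv_mem a.2)
  letI instA : CommGroup A := { (inferInstance : Group A) with mul_comm := hAcomm }
  have hPZl : ∀ z : F, z ∈ Z → ∀ b, P z b = 1 := fun z hz b => Subtype.ext
    (commutatorElement_eq_one_iff_mul_comm.mpr (scal_comm hρ hz _).symm)
  have hPZr : ∀ z : F, z ∈ Z → ∀ b, P b z = 1 := fun z hz b => by rw [hPswap, hPZl z hz, inv_one]
  let ωf : A → A → kˣ := Quotient.lift₂ (fun a b => χ (P a b)) fun a b a' b' ha hb => by
    have ha := QuotientGroup.leftRel_apply.mp ha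
    have hb := QuotientGroup.leftRel_apply.mp hb
    rw [show a' = a * (a⁻¹ * a') by group, show b' = b * (b⁻¹ * b') by group, hPl a (a⁻¹ * a'),
      hPr a b (b⁻¹ * b'), hPZr _ hb a, hPZl _ ha, mul_one, mul_one]
  have hωf : ∀ a b : F, ωf (a : A) (b : A) = χ (P a b) := fun _ _ => rfl
  have hnd : ∀ a : A, (∀ b, ωf a b = 1) → a = 1 := by
    intro a
    induction a using QuotientGroup.induction_on with | _ a => ?_
    intro ha
    refine (QuotientGroup.eq_one_iff a).mpr ?_
    have hc : a ∈ Subgroup.center F := Subgroup.mem_center_iff.mpr fun b => by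
      have e := ha (b : A)
      rw [hωf, map_eq_one_iff χ hχ] at e
      exact Subtype.ext (commutatorElement_eq_one_iff_mul_comm.mp (congrArg Subtype.val e)).symm
    haveI : ((Subgroup.center F).map F.subtype).Characteristic := inferInstance
    refine hab ((Subgroup.center F).map F.subtype) inferInstance ?_ ⟨a, hc, rfl⟩
    rintro _ ⟨x, hx, rfl⟩ _ ⟨y, hy, rfl⟩
    exact congrArg Subtype.val (Subgroup.mem_center_iff.mp hy x)
  let ω : Pairing A k :=
    { toFun := ωf
      mul_left := fun a b c => by
        induction a using QuotientGroup.induction_on with | _ a => ?_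
        induction b using QuotientGroup.induction_on with | _ b => ?_
        induction c using QuotientGroup.induction_on with | _ c => ?_
        show χ (P (a * b) c) = _
        rw [hPl, map_mul]; rfl
      mul_right := fun a b c => by
        induction a using QuotientGroup.induction_on with | _ a => ?_
        induction b using QuotientGroup.induction_on with | _ b => ?_
        induction c using QuotientGroup.induction_on with | _ c => ?_
        show χ (P a (b * c)) = _
        rw [hPr, map_mul]; rfl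
      self := fun a => by
        induction a using QuotientGroup.induction_on with | _ a => ?_
        show χ (P a a) = 1
        rw [map_eq_one_iff χ hχ]
        exact Subtype.ext (commutatorElement_self _)
      nondeg := hnd }
  -- the action
  let cj : C →* MulAut F := MulAut.conjNormal
  have hcjZ : ∀ c, Z.map (cj c).toMonoidHom = Z := by
    intro c
    ext x
    constructor
    · rintro ⟨z, hz, rfl⟩
      show (c * (z : C) * c⁻¹) ∈ scal ρ
      exact hscal.conj_mem _ hz c
    · intro hx
      refine ⟨cj c⁻¹ x, ?_, by simp⟩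
      show (c⁻¹ * (x : C) * c⁻¹⁻¹) ∈ scal ρ
      exact hscal.conj_mem _ hx c⁻¹
  let σ : C →* MulAut A :=
    MonoidHom.mk' (fun c => QuotientGroup.congr Z Z (cj c) (hcjZ c)) fun c d => MulEquiv.ext fun a => by
      induction a using QuotientGroup.induction_on with | _ a => ?_
      exact congrArg QuotientGroup.mk (DFunLike.congr_fun (map_mul cj c d) a)
  have hσ : ∀ c (a : F), σ c (a : A) = ((cj c a : F) : A) := fun _ _ => rfl
  have hωσ : ∀ c a b, ω.toFun (σ c a) (σ c b) = ω.toFun a b := by
    intro c a b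
    induction a using QuotientGroup.induction_on with | _ a => ?_
    induction b using QuotientGroup.induction_on with | _ b => ?_
    exact congrArg χ (hPconj c a b)
  have hker : σ.ker = F := by
    refine le_antisymm (fun c hc => ?_) fun f hf => ?_
    · have hcF : ∀ a : F, ⁅c, (a : C)⁆ ∈ scal ρ := by
        intro a
        have h := DFunLike.congr_fun (MonoidHom.mem_ker.mp hc) (a : A)
        rw [hσ, MulAut.one_apply, QuotientGroup.eq] at h
        have h' : (c * (a : C) * c⁻¹)⁻¹ * (a : C) ∈ scal ρ := h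
        have e : ⁅c, (a : C)⁆ = (a : C) * ((c * (a : C) * c⁻¹)⁻¹ * (a : C))⁻¹ * (a : C)⁻¹ := by
          simp only [commutatorElement_def]; group
        rw [e]
        exact hscal.conj_mem _ (inv_mem h') _
      let φ : F → kˣ := fun a => χ ⟨⁅c, (a : C)⁆, hcF a⟩
      have hφmul : ∀ a b, φ (a * b) = φ a * φ b := by
        intro a b
        show χ _ = χ _ * χ _
        rw [← map_mul]
        congr 1
        refine Subtype.ext ?_
        have h := scal_comm hρ (hcF b) (a : C)
        show ⁅c, (a : C) * b⁆ = ⁅c, (a : C)⁆ * ⁅c, (b : C)⁆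
        simp only [commutatorElement_def] at h ⊢
        calc c * ((a : C) * b) * c⁻¹ * ((a : C) * b)⁻¹
            = c * (a : C) * c⁻¹ * ((c * (b : C) * c⁻¹ * (b : C)⁻¹) * (a : C)⁻¹) := by group
          _ = c * (a : C) * c⁻¹ * ((a : C)⁻¹ * (c * (b : C) * c⁻¹ * (b : C)⁻¹)) := by
              have h2 := scal_comm hρ (hcF b) (a : C)⁻¹
              simp only [commutatorElement_def] at h2
              rw [h2]
          _ = _ := by group
      let Φ : A →* kˣ := QuotientGroup.lift Z (MonoidHom.mk' φ hφmul) fun z hz => by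
        refine (map_eq_one_iff χ hχ).mpr (Subtype.ext ?_)
        exact commutatorElement_eq_one_iff_mul_comm.mpr (scal_comm hρ hz c)
      obtain ⟨hfin, hcard⟩ := Pairing.card_hom_units_le (k := k) A
      let Λ : A → (A →* kˣ) := fun a => ω.right a
      have hΛ : Function.Injective Λ := fun a b e => by
        refine inv_mul_eq_one.mp (hnd _ fun d => ?_)
        show ω.toFun (a⁻¹ * b) d = 1
        rw [ω.mul_left, show ω.toFun a⁻¹ d = (ω.toFun a d)⁻¹ from map_inv (ω.left d) a, inv_mul_eq_one]
        exact DFunLike.congr_fun e d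
      obtain ⟨f, hf⟩ := ((Nat.bijective_iff_injective_and_card Λ).mpr
        ⟨hΛ, le_antisymm (Nat.card_le_card_of_injective _ hΛ) hcard⟩).2 Φ
      induction f using QuotientGroup.induction_on with | _ f => ?_
      have hcf : (f : C)⁻¹ * c ∈ Subgroup.centralizer (F : Set C) := by
        rw [Subgroup.mem_centralizer_iff]
        intro a ha
        have e := DFunLike.congr_fun hf ((⟨a, ha⟩ : F) : A)
        have e' : P f ⟨a, ha⟩ = ⟨⁅c, a⁆, hcF ⟨a, ha⟩⟩ := hχ e
        have e'' : ⁅(f : C), a⁆ = ⁅c, a⁆ := congrArg Subtype.val e'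
        simp only [commutatorElement_def, mul_left_inj] at e''
        calc a * ((f : C)⁻¹ * c) = (f : C)⁻¹ * ((f : C) * a * (f : C)⁻¹) * c := by group
          _ = (f : C)⁻¹ * c * a := by rw [e'']; group
      have := mul_mem f.2 (CfsgLib.centralizer_fitting_le_of_solvable hcf)
      rwa [mul_inv_cancel_left] at this
    · refine MonoidHom.mem_ker.mpr (MulEquiv.ext fun a => ?_)
      induction a using QuotientGroup.induction_on with | _ a => ?_
      rw [hσ, MulAut.one_apply, QuotientGroup.eq]
      show (f * (a : C) * f⁻¹)⁻¹ * (a : C) ∈ scal ρ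
      rw [show (f * (a : C) * f⁻¹)⁻¹ * (a : C) = ⁅f, (a : C)⁻¹⁆ by simp only [commutatorElement_def]; group]
      exact hcomm _ hf _ (inv_mem a.2)
  -- independence of representatives
  have hsize : Nat.card A ≤ Module.finrank k V * Module.finrank k V := by
    have := Fintype.ofFinite A
    let T : A → Module.End k V := fun a => ((ρ (a.out : C)) : V →ₗ[k] V)
    have hli : LinearIndependent k T := by
      rw [Fintype.linearIndependent_iff]
      intro c hc
      have key : ∀ b : A, ∑ a, (c a * (ω.toFun b a : k)) • T a = 0 := by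
        intro b
        refine LinearMap.ext fun x => ?_
        have e := congrArg (ρ (b.out : C)) (LinearMap.congr_fun hc ((ρ (b.out : C))⁻¹ x))
        simp only [LinearMap.sum_apply, LinearMap.smul_apply, LinearMap.zero_apply, map_zero, map_sum,
          map_smul] at e ⊢
        rw [← e]
        refine Finset.sum_congr rfl fun a _ => ?_
        rw [mul_smul]
        congr 1
        have h1 : ρ (⁅(b.out : C), (a.out : C)⁆) (ρ (a.out : C) x) =
            (ω.toFun b a : k) • ρ (a.out : C) x := by
          have e : ω.toFun b a = χ (P b.out a.out) := by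
            conv_lhs => rw [← QuotientGroup.out_eq' b, ← QuotientGroup.out_eq' a]
            rfl
          rw [e]
          exact hv (P b.out a.out) _
        show (ω.toFun b a : k) • ρ (a.out : C) x = ρ (b.out : C) (ρ (a.out : C) ((ρ (b.out : C))⁻¹ x))
        rw [← h1, ← LinearEquiv.mul_apply, ← map_mul, ← map_inv, ← LinearEquiv.mul_apply, ← map_mul,
          ← LinearEquiv.mul_apply, ← map_mul]
        congr 2
        simp only [commutatorElement_def]; group
      intro a₀
      by_contra hne
      obtain ⟨x, hx⟩ : ∃ x, T a₀ x ≠ 0 := by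
        obtain ⟨x, hx⟩ := exists_ne (0 : V)
        exact ⟨x, fun e => hx ((ρ (a₀.out : C)).map_eq_zero_iff.mp e)⟩
      obtain ⟨f, hf⟩ : ∃ f : Module.Dual k V, f (T a₀ x) ≠ 0 := by
        by_contra hc'
        push Not at hc'
        exact hx ((Module.forall_dual_apply_eq_zero_iff k _).mp hc')
      have hind := (linearIndependent_monoidHom A k).comp (fun a : A => (Units.coeHom k).comp (ω.left a))
        fun a b e => by
          refine inv_mul_eq_one.mp (hnd _ fun d => ω.eq_one_comm ?_)
          rw [ω.mul_right, show ω.toFun d a⁻¹ = (ω.toFun d a)⁻¹ from map_inv (ω.right d) a, inv_mul_eq_one]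
          exact Units.ext (DFunLike.congr_fun e d)
      have hzero := Fintype.linearIndependent_iff.mp hind (fun a => c a * f (T a x)) (by
        funext b
        simp only [Finset.sum_apply, Pi.smul_apply, Function.comp_apply, MonoidHom.coe_comp, Pi.zero_apply,
          Units.coeHom_apply, Pairing.left_apply, smul_eq_mul]
        have := congrArg f (LinearMap.congr_fun (key b) x)
        simp only [LinearMap.sum_apply, LinearMap.smul_apply, LinearMap.zero_apply, map_zero, map_sum,
          map_smul, smul_eq_mul] at this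
        rw [← this]
        exact Finset.sum_congr rfl fun a _ => by ring) a₀
      rcases mul_eq_zero.mp hzero with h | h
      · exact hne h
      · exact hf h
    have h := hli.fintype_card_le_finrank
    rwa [Module.finrank_linearMap, ← Nat.card_eq_fintype_card] at h
  refine ⟨A, instA, inferInstance, ω, σ, hker, hωσ, hsize, ?_, ?_⟩
  · have e := Subgroup.card_eq_card_quotient_mul_card_subgroup Z
    rw [e, Nat.card_congr (Subgroup.subgroupOfEquivOfLe hZF).toEquiv, mul_comm]
  · intro hn U hU hiso
    let B : Subgroup C := (U.comap (QuotientGroup.mk' Z)).map F.subtype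
    have hBn : B.Normal := ⟨by
      rintro _ ⟨x, hx, rfl⟩ c
      exact ⟨cj c x, hU c _ hx, rfl⟩⟩
    have hB : B ≤ scal ρ := hn B hBn (by
      rintro _ ⟨x, hx, rfl⟩ _ ⟨y, hy, rfl⟩
      have e : χ (P x y) = 1 := hiso _ hx _ hy
      rw [map_eq_one_iff χ hχ] at e
      exact commutatorElement_eq_one_iff_mul_comm.mp (congrArg Subtype.val e))
    refine (Subgroup.eq_bot_iff_forall U).mpr fun a ha => ?_
    induction a using QuotientGroup.induction_on with | _ a => ?_
    exact (QuotientGroup.eq_one_iff a).mpr (hB ⟨a, ha, rfl⟩)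

end CfsgLib.SolvClass
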